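import Cfsg.Agent.H336.LinFour.Def

/-!
# Transport of `Sit`
-/

set_option autoImplicit false

namespace Cfsg.Agent.H336.LinFour

open Subgroup

/-- transport along an isomorphism -/
theorem Sit.equiv {K L : Type*} [Group K] [Group L] {th : V → K} {O K0 : Subgroup K} (h : Sit th O K0)
    (e : K ≃* L) : Sit (fun v => e (th v)) (O.map e.toMonoidHom) (K0.map e.toMonoidHom) where
  add u v := by rw [h.add, map_mul]
  inj u v huv := h.inj (e.injective huv)
  odd := by
    rw [← Nat.card_congr (O.equivMapOfInjective _ e.injective).toEquiv]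
    exact h.odd
  oc := by
    rintro _ ⟨x, hx, rfl⟩ v
    have := congrArg e (h.oc x hx v)
    rwa [map_mul, map_mul] at this
  oN := by
    rintro _ ⟨x, hx, rfl⟩ n hn
    obtain ⟨m, rfl⟩ := e.surjective n
    refine ⟨m * x * m⁻¹, h.oN x hx m fun v => ?_, by simp⟩
    obtain ⟨u, hu⟩ := hn v
    refine ⟨u, e.injective ?_⟩
    rw [← hu]; simp
  cent := by
    intro x hx
    obtain ⟨y, rfl⟩ := e.surjective x
    obtain ⟨o, ho, v, rfl⟩ := h.cent y fun v => e.injective (by
      rw [map_mul, map_mul]; exact hx v)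
    exact ⟨e o, ⟨o, ho, rfl⟩, v, map_mul _ _ _⟩
  k0 := by
    rintro _ ⟨k, hk, rfl⟩ v
    obtain ⟨u, hu⟩ := h.k0 k hk v
    exact ⟨u, by simp [← hu]⟩
  le := map_mono h.le
  k0c := by
    rintro _ ⟨k, hk, rfl⟩ hc
    refine ⟨k, h.k0c k hk fun v => e.injective ?_, rfl⟩
    rw [map_mul, map_mul]
    exact hc v
  full := by
    intro g
    obtain ⟨k, hk, hk'⟩ := h.full g
    exact ⟨e k, ⟨k, hk, rfl⟩, fun v => by rw [← hk' v]; simp⟩

end Cfsg.Agent.H336.LinFour
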