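import Cfsg.Agent.H336.LinFour.Frame
import Cfsg.Agent.H122.LinFour.Alt
import Cfsg.Agent.H150.LinFourEnd
import Cfsg.Agent.H511.LinFour.ExcA
import Cfsg.Agent.H318.Four.CharTwo
import Cfsg.Agent.H207.LinFour.Row
import Cfsg.Agent.H20.He.LinFourHe
import Cfsg.Agent.BiChar.SmallCard

/-!
# Assembly of S1918 up to the rows `F4`, `E6`, `2E6`, `E7`, `E8` over fields of odd characteristic
-/

set_option autoImplicit false

namespace Cfsg.Agent.H336.LinFour.All

open Subgroup Cfsg Cfsg.Agent.H336.LinFour Cfsg.Agent.H336.LinFour.Frame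

universe u

/-- the exceptional rows -/
structure Exc : Prop where
  f4 : ∀ {K : Type u} [Group K] [Finite K] [IsSimpleGroup K] {F : Type} [Field F] [Fintype F], (2 : F) ≠ 0 →
    (K ≃* Lie.chevF4.group F) → ∀ {th : V → K} {O K0 : Subgroup K}, Sit th O K0 → False
  e6 : ∀ {K : Type u} [Group K] [Finite K] [IsSimpleGroup K] {F : Type} [Field F] [Fintype F], (2 : F) ≠ 0 →
    (K ≃* Lie.chevE6.group F) → ∀ {th : V → K} {O K0 : Subgroup K}, Sit th O K0 → False
  e7 : ∀ {K : Type u} [Group K] [Finite K] [IsSimpleGroup K] {F : Type} [Field F] [Fintype F], (2 : F) ≠ 0 →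
    (K ≃* Lie.chevE7.group F) → ∀ {th : V → K} {O K0 : Subgroup K}, Sit th O K0 → False
  e8 : ∀ {K : Type u} [Group K] [Finite K] [IsSimpleGroup K] {F : Type} [Field F] [Fintype F], (2 : F) ≠ 0 →
    (K ≃* Lie.chevE8.group F) → ∀ {th : V → K} {O K0 : Subgroup K}, Sit th O K0 → False
  te6 : ∀ {K : Type u} [Group K] [Finite K] [IsSimpleGroup K] {F : Type} [Field F] [Fintype F], (2 : F) ≠ 0 →
    ∀ (q : ℕ), IsPrimePow q → Fintype.card F = q ^ 2 → (K ≃* Lie.twistedE6 F q) →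
      ∀ {th : V → K} {O K0 : Subgroup K}, Sit th O K0 → False

theorem exc_row (E : Exc.{u}) {K : Type u} [Group K] [Finite K] [IsSimpleGroup K] (hK : IsExceptionalLieType K)
    (h2 : ¬ (IsLieTypeChar 2 K ∨ Lie.IsoTits K)) {th : V → K} {O K0 : Subgroup K} (h : Sit th O K0) : False := by
  rw [not_or] at h2
  obtain ⟨h2, h2'⟩ := h2
  have hchev : ∀ {F : Type} [Field F] [Fintype F], ((2 : F) = 0 → IsExceptionalChevChar 2 K) → (2 : F) ≠ 0 := by
    intro F _ _ h3 h4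
    apply h2
    exact Or.inr (Or.inr (Or.inr (Or.inr (Or.inr (Or.inr (Or.inl (h3 h4)))))))
  have htw : ∀ {F : Type} [Field F] [Fintype F], ((2 : F) = 0 → IsTwistedE6D4Char 2 K) → (2 : F) ≠ 0 := by
    intro F _ _ h3 h4
    apply h2
    exact Or.inr (Or.inr (Or.inr (Or.inr (Or.inr (Or.inr (Or.inr (Or.inl (h3 h4))))))))
  rcases hK with hK | hK | hK | hK | hK | hK | hK | hK | hK | hK | hK
  · exact H511.LinFour.row_excA (Or.inl hK) h2 h
  · obtain ⟨F, _, _, ⟨e⟩⟩ := hK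
    have h3 : (2 : F) ≠ 0 := hchev fun h0 =>
      ⟨F, inferInstance, inferInstance, CharTwo.of_one_ne_zero_of_two_eq_zero one_ne_zero h0,
        Or.inr (Or.inl ⟨e⟩)⟩
    exact E.f4 h3 e h
  · obtain ⟨F, _, _, ⟨e⟩⟩ := hK
    have h3 : (2 : F) ≠ 0 := hchev fun h0 =>
      ⟨F, inferInstance, inferInstance, CharTwo.of_one_ne_zero_of_two_eq_zero one_ne_zero h0,
        Or.inr (Or.inr (Or.inl ⟨e⟩))⟩
    exact E.e6 h3 e h
  · obtain ⟨F, _, _, ⟨e⟩⟩ := hK
    have h3 : (2 : F) ≠ 0 := hchev fun h0 =>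
      ⟨F, inferInstance, inferInstance, CharTwo.of_one_ne_zero_of_two_eq_zero one_ne_zero h0,
        Or.inr (Or.inr (Or.inr (Or.inl ⟨e⟩)))⟩
    exact E.e7 h3 e h
  · obtain ⟨F, _, _, ⟨e⟩⟩ := hK
    have h3 : (2 : F) ≠ 0 := hchev fun h0 =>
      ⟨F, inferInstance, inferInstance, CharTwo.of_one_ne_zero_of_two_eq_zero one_ne_zero h0,
        Or.inr (Or.inr (Or.inr (Or.inr ⟨e⟩)))⟩
    exact E.e8 h3 e h
  · obtain ⟨F, _, _, q, hq, hF, ⟨e⟩⟩ := hK
    have h3 : (2 : F) ≠ 0 := htw fun h0 =>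
      ⟨F, inferInstance, inferInstance, CharTwo.of_one_ne_zero_of_two_eq_zero one_ne_zero h0, q, hq,
        Or.inl ⟨hF, ⟨e⟩⟩⟩
    exact E.te6 h3 q hq hF e h
  · exact H511.LinFour.row_excA (Or.inr (Or.inl hK)) h2 h
  · exact absurd (Or.inr (Or.inr (Or.inr (Or.inr (Or.inr (Or.inr (Or.inr (Or.inr (Or.inl ⟨rfl, hK⟩))))))))) h2
  · exact H511.LinFour.row_excA (Or.inr (Or.inr hK)) h2 h
  · exact absurd (Or.inr (Or.inr (Or.inr (Or.inr (Or.inr (Or.inr (Or.inr (Or.inr (Or.inr (Or.inl ⟨rfl, hK⟩)))))))))) h2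
  · exact h2' hK

/-- all rows from the exceptional ones -/
theorem rows (E : Exc.{u}) : Rows.{u} where
  alt h := H122.LinFour.row_alt h
  char2 := by
    intro K _ _ _ hK th O K0 h
    rcases hK with hK | hK
    · exact H318.Four.CharTwo.row_char2 (Or.inl hK) h
    · have hc := BiChar.Small.card_of_isoTits hK
      have h3 := h.card_dvd
      rw [hc] at h3
      exact absurd h3 (by norm_num)
  exc hK h2 _ _ _ h := exc_row E hK h2 h
  spor := by
    intro K _ _ _ hK th O K0 h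
    rcases H207.LinFour.row_spor hK h with h1 | h1
    · exact h1
    · exact (H20.He.false_of_he h1 h).elim
  ende := by
    intro G _ _ K hKn hC th O K0 h hK h3
    rcases h3 with ⟨n, h16, h19, ⟨e⟩⟩ | ⟨⟨e⟩⟩ | h4
    · rcases H150.LinFourEnd.alt h K hC h16 h19 e with h5 | h5
      · exact Or.inr (Or.inr (Or.inr (Or.inl h5)))
      · exact Or.inr (Or.inr (Or.inr (Or.inr h5)))
    · rcases H150.LinFourEnd.gl K hC e with h5 | h5
      · exact Or.inl h5
      · exact Or.inr (Or.inl h5)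
    · exact Or.inr (Or.inr (Or.inl (H150.LinFourEnd.m24 K hC h4)))

end Cfsg.Agent.H336.LinFour.All
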