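import Cfsg.Agent.H336.LinFour.Iso
import Mathlib.GroupTheory.Sylow

/-!
# Basic consequences of `Sit`

* `Sit.rep : N_K(A) →* GL_4(2)`, kernel `C_K(A)`, onto already on `K0`; normal subgroups of `N_K(A)`;
* orders: `20160 * 16 ∣ |K|`;
* all elements of `A#` are 2-central and every 2-central element of 2-power order is conjugate into `A`;
* `C_N(a)`-invariant subgroups of `A`.
-/

set_option autoImplicit false

namespace Cfsg.Agent.H336.LinFour

open Subgroup Pointwise

/-! ### the vector space -/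

/-- the subgroups of `V` invariant under the transvections fixing `a` -/
theorem inv_cases {a : V} (ha : a ≠ 0) (W : AddSubgroup V)
    (hW : ∀ c b, dt c a = 0 → dt c b = 0 → ∀ w ∈ W, w + dt c w • b ∈ W) :
    W = ⊥ ∨ (∀ v, v ∈ W ↔ v = 0 ∨ v = a) ∨ W = ⊤ := by
  by_cases h1 : ∀ w ∈ W, w = 0 ∨ w = a
  · by_cases haW : a ∈ W
    · right; left
      intro v
      refine ⟨h1 v, ?_⟩
      rintro (rfl | rfl)
      · exact W.zero_mem
      · exact haW
    · left
      rw [AddSubgroup.eq_bot_iff_forall]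
      intro w hw
      rcases h1 w hw with h | rfl
      · exact h
      · exact absurd hw haW
  push Not at h1
  obtain ⟨w, hw, hw0, hwa⟩ := h1
  right; right
  -- everything outside `⟨a, w⟩`
  have key : ∀ b, b ≠ 0 → b ≠ a → b ≠ w → b ≠ a + w → b ∈ W := by
    intro b hb0 hba hbw hbaw
    obtain ⟨c, h1, h2, h3⟩ := exists_dt_triple ha hw0 hwa.symm hb0 hba hbw hbaw 0 1 0
    have h4 := hW c b h1 h3 w hw
    rw [h2, one_smul] at h4
    have h5 := W.add_mem hw h4
    rwa [self_add_add] at h5
  have hex : ∃ b : V, b ≠ 0 ∧ b ≠ a ∧ b ≠ w ∧ b ≠ a + w := by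
    by_contra hc
    push Not at hc
    have hsub : (Finset.univ : Finset V) ⊆ {0, a, w, a + w} := by
      intro b _
      simp only [Finset.mem_insert, Finset.mem_singleton]
      by_cases h0 : b = 0
      · exact Or.inl h0
      by_cases h2 : b = a
      · exact Or.inr (Or.inl h2)
      by_cases h3 : b = w
      · exact Or.inr (Or.inr (Or.inl h3))
      · exact Or.inr (Or.inr (Or.inr (hc b h0 h2 h3)))
    have h2 := Finset.card_le_card hsub
    have h3 : (Finset.univ : Finset V).card = 16 := by simp [V]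
    have h4 : ({0, a, w, a + w} : Finset V).card ≤ 4 := Finset.card_le_four
    omega
  obtain ⟨b, hb0, hba, hbw, hbaw⟩ := hex
  have hb := key b hb0 hba hbw hbaw
  -- `a + b` is also outside
  have haW : a ∈ W := by
    have h2 : a + b ∈ W := by
      apply key
      · intro h; exact hba ((add_eq_zero_iff _ _).1 h).symm
      · intro h; exact hb0 (by rwa [add_eq_left] at h)
      · intro h; exact hbaw (by rw [← h, self_add_add])
      · intro h; exact hbw (add_left_cancel h)
    have h3 := W.add_mem h2 hb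
    rwa [add_add_self] at h3
  rw [eq_top_iff]
  intro u _
  by_cases h0 : u = 0
  · rw [h0]; exact W.zero_mem
  by_cases h2 : u = a
  · rw [h2]; exact haW
  by_cases h3 : u = w
  · rw [h3]; exact hw
  by_cases h4 : u = a + w
  · rw [h4]; exact W.add_mem haW hw
  · exact key u h0 h2 h3 h4

namespace Sit

variable {K : Type*} [Group K] {th : V → K} {O K0 : Subgroup K}

theorem exists_rep (h : Sit th O K0) (n : normalizer (h.A : Set K)) :
    ∃ s : S, ∀ v, (n : K) * th v * (n : K)⁻¹ = th (act s v) := by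
  obtain ⟨g, hg'⟩ := h.exists_equiv_of_mem n.2
  obtain ⟨s, hs⟩ := exists_act g
  exact ⟨s, fun v => by rw [hg', hs]⟩

/-- the action of the normaliser -/
noncomputable def rep (h : Sit th O K0) : normalizer (h.A : Set K) →* S :=
  MonoidHom.mk' (fun n => (h.exists_rep n).choose) (by
    intro m n
    apply act_ext
    intro v
    apply h.inj
    rw [act_mul, ← (h.exists_rep (m * n)).choose_spec, ← (h.exists_rep m).choose_spec,
      ← (h.exists_rep n).choose_spec]
    push_cast
    group)

theorem rep_spec (h : Sit th O K0) (n : normalizer (h.A : Set K)) (v : V) :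
    (n : K) * th v * (n : K)⁻¹ = th (act (h.rep n) v) := (h.exists_rep n).choose_spec v

theorem rep_eq (h : Sit th O K0) (n : normalizer (h.A : Set K)) (s : S)
    (hs : ∀ v, (n : K) * th v * (n : K)⁻¹ = th (act s v)) : h.rep n = s := by
  apply act_ext
  intro v
  apply h.inj
  rw [← h.rep_spec, hs]

theorem rep_eq_one (h : Sit th O K0) (n : normalizer (h.A : Set K)) :
    h.rep n = 1 ↔ ∀ v, (n : K) * th v = th v * n := by
  constructor
  · intro h1 v
    have := h.rep_spec n v
    rw [h1, act_one, mul_inv_eq_iff_eq_mul] at this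
    exact this
  · intro h1
    apply h.rep_eq
    intro v
    rw [act_one, h1, mul_inv_cancel_right]

theorem rep_surj (h : Sit th O K0) (s : S) : ∃ k, ∃ hk : k ∈ K0, h.rep ⟨k, h.K0_le hk⟩ = s := by
  obtain ⟨k, hk, hk'⟩ := h.full (actE s)
  exact ⟨k, hk, h.rep_eq _ _ fun v => by rw [hk', actE_apply]⟩

theorem rep_surjective (h : Sit th O K0) : Function.Surjective h.rep := fun s => by
  obtain ⟨k, hk, h1⟩ := h.rep_surj s
  exact ⟨_, h1⟩

/-- a normal subgroup of the normaliser centralises `A` or induces the full linear group -/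
theorem normal_cases (h : Sit th O K0) (M : Subgroup (normalizer (h.A : Set K))) [M.Normal] :
    M ≤ h.rep.ker ∨ M.map h.rep = ⊤ := by
  have hs := isSimple_S
  rcases (Subgroup.Normal.map (inferInstance : M.Normal) h.rep h.rep_surjective).eq_bot_or_eq_top with h1 | h1
  · left
    rwa [Subgroup.map_eq_bot_iff] at h1
  · exact Or.inr h1

theorem card_dvd_normalizer (h : Sit th O K0) : 20160 * 16 ∣ Nat.card (normalizer (h.A : Set K)) := by
  have h1 : Nat.card (normalizer (h.A : Set K)) = Nat.card S * Nat.card h.rep.ker := by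
    rw [← Nat.card_congr (QuotientGroup.quotientKerEquivOfSurjective _ h.rep_surjective).toEquiv,
      ← Subgroup.card_eq_card_quotient_mul_card_subgroup]
  rw [h1, card_S]
  apply Nat.mul_dvd_mul_left
  rw [← h.card_A]
  have h2 : h.A.subgroupOf (normalizer (h.A : Set K)) ≤ h.rep.ker := by
    rintro ⟨n, hn⟩ hA
    rw [mem_subgroupOf] at hA
    obtain ⟨u, rfl⟩ := hA
    rw [MonoidHom.mem_ker, h.rep_eq_one]
    intro v
    exact h.comm u v
  have h3 := Subgroup.card_dvd_of_le h2
  rwa [Nat.card_congr (Subgroup.subgroupOfEquivOfLe le_normalizer).toEquiv] at h3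

theorem card_dvd (h : Sit th O K0) : 20160 * 16 ∣ Nat.card K :=
  h.card_dvd_normalizer.trans (Subgroup.card_subgroup_dvd_card _)

/-! ### Sylow subgroups -/

theorem isPGroup_A (h : Sit th O K0) : IsPGroup 2 h.A := by
  rintro ⟨_, v, rfl⟩
  exact ⟨1, Subtype.ext (by
    change th v ^ (2 ^ 1) = 1
    rw [pow_one, pow_two, h.sq])⟩

/-- an element of a 2-subgroup containing `A` and centralising it lies in `A` -/
theorem mem_of_pgroup (h : Sit th O K0) {P : Subgroup K} (hP : IsPGroup 2 P) {x : K} (hx : x ∈ P)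
    (hc : ∀ v, x * th v = th v * x) : x ∈ h.A := by
  obtain ⟨n, hn⟩ := hP ⟨x, hx⟩
  exact h.mem_of_sq hc (n := n) (congrArg Subtype.val hn)

theorem exists_sylow_le [Finite K] {x : K} {n : ℕ} (hx : x ^ 2 ^ n = 1) (hi : ¬ 2 ∣ (centralizer {x}).index) :
    ∃ Q : Sylow 2 K, x ∈ Q ∧ (Q : Subgroup K) ≤ centralizer {x} := by
  have : Fact (Nat.Prime 2) := ⟨Nat.prime_two⟩
  have hxC : x ∈ centralizer {x} := mem_centralizer_singleton_iff.2 rfl
  have h1 : IsPGroup 2 (zpowers (⟨x, hxC⟩ : centralizer {x})) := by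
    rw [IsPGroup.iff_card]
    rw [Nat.card_zpowers]
    have h2 : orderOf (⟨x, hxC⟩ : centralizer {x}) ∣ 2 ^ n := orderOf_dvd_of_pow_eq_one (Subtype.ext hx)
    obtain ⟨k, _, hk⟩ := (Nat.dvd_prime_pow Nat.prime_two).1 h2
    exact ⟨k, hk⟩
  obtain ⟨Q, hQ⟩ := h1.exists_le_sylow
  have hle : (Q : Subgroup (centralizer {x})).map (centralizer {x}).subtype ≤ centralizer {x} := map_subtype_le _
  refine ⟨Sylow.ofCard ((Q : Subgroup (centralizer {x})).map (centralizer {x}).subtype) ?_, ?_, ?_⟩
  · rw [Nat.card_congr ((Q : Subgroup (centralizer {x})).equivMapOfInjective _ (subtype_injective _)).toEquiv.symm,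
      Q.card_eq_multiplicity]
    congr 1
    rw [← (centralizer {x}).card_mul_index, Nat.factorization_mul Nat.card_pos.ne' Subgroup.index_ne_zero_of_finite,
      Finsupp.add_apply, Nat.factorization_eq_zero_of_not_dvd hi, add_zero]
  · change x ∈ (Q : Subgroup (centralizer {x})).map (centralizer {x}).subtype
    exact ⟨⟨x, hxC⟩, hQ (mem_zpowers _), rfl⟩
  · exact hle

/-- the centre of a Sylow subgroup containing `A` is contained in `A` and is nontrivial -/
theorem exists_central [Finite K] (h : Sit th O K0) : ∃ (P : Sylow 2 K) (v : V), v ≠ 0 ∧ h.A ≤ P ∧ ∀ x ∈ P, x * th v = th v * x := by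
  have : Fact (Nat.Prime 2) := ⟨Nat.prime_two⟩
  obtain ⟨P, hP⟩ := h.isPGroup_A.exists_le_sylow
  have hnt : Nontrivial P := by
    have : (Pi.single 0 1 : V) ≠ 0 := by
      intro hh; have := congrFun hh 0; simp at this
    refine ⟨⟨⟨_, hP (h.th_mem (Pi.single 0 1))⟩, 1, fun hh => this ?_⟩⟩
    exact (h.eq_one_iff _).1 (congrArg Subtype.val hh)
  have := P.2.center_nontrivial
  obtain ⟨z, hz⟩ := exists_ne (1 : center P)
  have hz2 : ∀ x ∈ P, x * (z : K) = z * x := fun x hx =>
    congrArg Subtype.val (mem_center_iff.1 z.2 ⟨x, hx⟩)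
  obtain ⟨v, hv⟩ := h.mem_of_pgroup P.2 (z : P).2 (fun v => (hz2 _ (hP (h.th_mem v))).symm)
  refine ⟨P, v, ?_, hP, ?_⟩
  · rintro rfl
    rw [h.zero] at hv
    exact hz (Subtype.ext (Subtype.ext hv.symm))
  · intro x hx
    rw [hv, hz2 x hx]

/-- all nonzero elements of `A` are 2-central -/
theorem odd_index [Finite K] (h : Sit th O K0) {v : V} (hv : v ≠ 0) : ¬ 2 ∣ (centralizer {th v}).index := by
  have : Fact (Nat.Prime 2) := ⟨Nat.prime_two⟩
  obtain ⟨P, u, hu, -, hP⟩ := h.exists_central
  have h1 : ¬ 2 ∣ (centralizer {th u}).index := by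
    intro h2
    apply P.not_dvd_index
    refine h2.trans (index_dvd_of_le fun x hx => ?_)
    rw [mem_centralizer_singleton_iff]
    exact hP x hx
  obtain ⟨k, -, hk⟩ := h.exists_conj hu hv
  have h3 : centralizer {th v} = (centralizer {th u}).map (MulAut.conj k).toMonoidHom := by
    ext x
    rw [mem_centralizer_singleton_iff, mem_map]
    constructor
    · intro hx
      refine ⟨k⁻¹ * x * k, ?_, by simp [mul_assoc]⟩
      rw [mem_centralizer_singleton_iff]
      have : th u = k⁻¹ * th v * k := by rw [← hk]; group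
      rw [this]
      calc k⁻¹ * x * k * (k⁻¹ * th v * k) = k⁻¹ * (x * th v) * k := by group
        _ = k⁻¹ * (th v * x) * k := by rw [hx]
        _ = _ := by group
    · rintro ⟨y, hy, rfl⟩
      rw [mem_centralizer_singleton_iff] at hy
      rw [← hk]
      simp only [MulEquiv.coe_toMonoidHom, MulAut.conj_apply]
      calc k * y * k⁻¹ * (k * th u * k⁻¹) = k * (y * th u) * k⁻¹ := by group
        _ = k * (th u * y) * k⁻¹ := by rw [hy]
        _ = _ := by group
  rw [h3]
  have h4 : (Subgroup.map (MulEquiv.toMonoidHom (MulAut.conj k)) (centralizer {th u})).index =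
      (centralizer {th u}).index := Subgroup.index_map_equiv _ (MulAut.conj k)
  rw [h4]
  exact h1

/-- every 2-central element of 2-power order is conjugate to each nonzero element of `A` -/
theorem exists_conj_of_odd_index [Finite K] (h : Sit th O K0) {x : K} (hx1 : x ≠ 1) {n : ℕ} (hx : x ^ 2 ^ n = 1)
    (hi : ¬ 2 ∣ (centralizer {x}).index) {v : V} (hv : v ≠ 0) : ∃ g : K, g * x * g⁻¹ = th v := by
  have : Fact (Nat.Prime 2) := ⟨Nat.prime_two⟩
  obtain ⟨Q, hxQ, hQ⟩ := exists_sylow_le hx hi
  obtain ⟨P, hP⟩ := h.isPGroup_A.exists_le_sylow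
  obtain ⟨g, rfl⟩ := MulAction.exists_smul_eq K Q P
  have h1 : g * x * g⁻¹ ∈ h.A := by
    refine h.mem_of_pgroup (g • Q).2 (x := g * x * g⁻¹) ?_ ?_
    · change g * x * g⁻¹ ∈ (MulAut.conj g) • (Q : Subgroup K)
      rw [Subgroup.mem_pointwise_smul_iff_inv_smul_mem]
      have h5 : (MulAut.conj g)⁻¹ • (g * x * g⁻¹) = x := by
        rw [← map_inv, MulAut.smul_def, MulAut.conj_apply]; group
      rw [h5]
      exact hxQ
    · intro u
      have h2 : g⁻¹ * th u * g ∈ Q := by
        have h3 := hP (h.th_mem u)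
        change th u ∈ (MulAut.conj g) • (Q : Subgroup K) at h3
        rw [Subgroup.mem_pointwise_smul_iff_inv_smul_mem] at h3
        have h5 : (MulAut.conj g)⁻¹ • th u = g⁻¹ * th u * g := by
          rw [← map_inv, MulAut.smul_def, MulAut.conj_apply]; group
        rw [h5] at h3
        exact h3
      have h4 := mem_centralizer_singleton_iff.1 (hQ h2)
      calc g * x * g⁻¹ * th u = g * (x * (g⁻¹ * th u * g)) * g⁻¹ := by group
        _ = g * ((g⁻¹ * th u * g) * x) * g⁻¹ := by rw [h4]
        _ = _ := by group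
  obtain ⟨u, hu⟩ := h1
  have hu0 : u ≠ 0 := by
    rintro rfl
    rw [h.zero] at hu
    exact hx1 (by
      have : x = g⁻¹ * (g * x * g⁻¹) * g := by group
      rw [this, ← hu]; group)
  obtain ⟨k, -, hk⟩ := h.exists_conj hu0 hv
  refine ⟨k * g, ?_⟩
  rw [← hk, hu]; group

/-! ### invariant subgroups -/

/-- intersections of `A` with subgroups normalised by `C_K(a)` -/
theorem inter_cases (h : Sit th O K0) {a : V} (ha : a ≠ 0) (Q : Subgroup K)
    (hQ : ∀ k ∈ K0, k * th a = th a * k → ∀ x ∈ Q, k * x * k⁻¹ ∈ Q) :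
    (∀ v, th v ∈ Q ↔ v = 0) ∨ (∀ v, th v ∈ Q ↔ v = 0 ∨ v = a) ∨ ∀ v, th v ∈ Q := by
  let W : AddSubgroup V :=
    { carrier := {v | th v ∈ Q}
      zero_mem' := by change th 0 ∈ Q; rw [h.zero]; exact Q.one_mem
      add_mem' := fun {u v} hu hv => by change th (u + v) ∈ Q; rw [h.add]; exact Q.mul_mem hu hv
      neg_mem' := fun {u} hu => by change th (-u) ∈ Q; rw [v_neg]; exact hu }
  have hW : ∀ v, v ∈ W ↔ th v ∈ Q := fun v => Iff.rfl
  have hinv : ∀ c b, dt c a = 0 → dt c b = 0 → ∀ w ∈ W, w + dt c w • b ∈ W := by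
    intro c b hc hb w hw
    obtain ⟨k, hk, hk'⟩ := h.exists_tv c b hb
    rw [hW] at hw ⊢
    rw [← hk']
    refine hQ k hk ?_ _ hw
    have := hk' a
    rw [hc, zero_smul, add_zero, mul_inv_eq_iff_eq_mul] at this
    exact this
  rcases inv_cases ha W hinv with h1 | h1 | h1
  · left
    intro v
    rw [← hW, h1, AddSubgroup.mem_bot]
  · right; left; exact h1
  · right; right
    intro v
    rw [← hW, h1]; trivial

end Sit

end Cfsg.Agent.H336.LinFour
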