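import Cfsg.Agent.H336.LinFour.Basic

/-!
# Lifts of `A` to a central extension commute

`π : L → K` surjective with central kernel, `Sit th O K0` in `K`: the elements of `L` over `A` commute.
-/

set_option autoImplicit false

namespace Cfsg.Agent.H336.LinFour

open Subgroup

section

variable {L : Type*} [Group L]

/-- the commutator -/
def cm (g h : L) : L := g * h * g⁻¹ * h⁻¹

theorem cm_mul_right {g h h' : L} (hc : ∀ x, cm g h' * x = x * cm g h') : cm g (h * h') = cm g h * cm g h' := by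
  unfold cm at *
  calc g * (h * h') * g⁻¹ * (h * h')⁻¹ = g * h * g⁻¹ * (g * h' * g⁻¹ * h'⁻¹) * h⁻¹ := by group
    _ = g * h * g⁻¹ * (g * h' * g⁻¹ * h'⁻¹ * h⁻¹) := by group
    _ = g * h * g⁻¹ * (h⁻¹ * (g * h' * g⁻¹ * h'⁻¹)) := by rw [hc h⁻¹]
    _ = _ := by group

theorem cm_mul_central {g h z : L} (hz : ∀ x, z * x = x * z) : cm g (z * h) = cm g h := by
  unfold cm
  have h1 := hz (h * g⁻¹ * h⁻¹)
  calc g * (z * h) * g⁻¹ * (z * h)⁻¹ = g * (z * (h * g⁻¹ * h⁻¹)) * z⁻¹ := by group
    _ = g * ((h * g⁻¹ * h⁻¹) * z) * z⁻¹ := by rw [h1]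
    _ = _ := by group

theorem cm_central_mul {g h z : L} (hz : ∀ x, z * x = x * z) : cm (z * g) h = cm g h := by
  unfold cm
  have h1 := hz (g * h * g⁻¹)
  calc z * g * h * (z * g)⁻¹ * h⁻¹ = (z * (g * h * g⁻¹)) * z⁻¹ * h⁻¹ := by group
    _ = ((g * h * g⁻¹) * z) * z⁻¹ * h⁻¹ := by rw [h1]
    _ = _ := by group

theorem cm_eq_one {g h : L} : cm g h = 1 ↔ g * h = h * g := by
  unfold cm
  rw [mul_inv_eq_one, mul_inv_eq_iff_eq_mul]

end

/-- a vector outside the span of two -/
theorem exists_third (u v : V) : ∃ w : V, w ≠ 0 ∧ w ≠ u ∧ w ≠ v ∧ w ≠ u + v := by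
  by_contra hc
  push Not at hc
  have hsub : (Finset.univ : Finset V) ⊆ {0, u, v, u + v} := by
    intro b _
    simp only [Finset.mem_insert, Finset.mem_singleton]
    by_cases h0 : b = 0
    · exact Or.inl h0
    by_cases h2 : b = u
    · exact Or.inr (Or.inl h2)
    by_cases h3 : b = v
    · exact Or.inr (Or.inr (Or.inl h3))
    · exact Or.inr (Or.inr (Or.inr (hc b h0 h2 h3)))
  have h2 := Finset.card_le_card hsub
  have h3 : (Finset.univ : Finset V).card = 16 := by simp [V]
  have h4 : ({0, u, v, u + v} : Finset V).card ≤ 4 := Finset.card_le_four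
  omega

namespace Sit

variable {K : Type*} [Group K] {th : V → K} {O K0 : Subgroup K} {L : Type*} [Group L]

/-- **lifts of `A` to a central extension commute** -/
theorem lifts_comm (h : Sit th O K0) (π : L →* K) (hs : Function.Surjective π)
    (hz : ∀ z, π z = 1 → ∀ g, z * g = g * z) {g g' : L} {u v : V} (hg : π g = th u) (hg' : π g' = th v) :
    g * g' = g' * g := by
  choose x hx using fun v => hs (th v)
  -- lifts differ by central elements
  have hdiff : ∀ (g : L) (v : V), π g = th v → ∃ z, π z = 1 ∧ g = z * x v := fun g v hg =>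
    ⟨g * (x v)⁻¹, by rw [map_mul, map_inv, hg, hx, mul_inv_cancel], by group⟩
  have hcc : ∀ g g' : L, ∀ u v : V, π g = th u → π g' = th v → cm g g' = cm (x u) (x v) := by
    intro g g' u v hg hg'
    obtain ⟨z, hz1, rfl⟩ := hdiff g u hg
    obtain ⟨z', hz1', rfl⟩ := hdiff g' v hg'
    rw [cm_central_mul (hz z hz1), cm_mul_central (hz z' hz1')]
  have hcen : ∀ u v : V, ∀ y, cm (x u) (x v) * y = y * cm (x u) (x v) := by
    intro u v
    apply hz
    unfold cm
    rw [map_mul, map_mul, map_mul, map_inv, map_inv, hx, hx, h.comm, mul_inv_cancel_right, mul_inv_cancel]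
  rw [← cm_eq_one, hcc g g' u v hg hg']
  by_cases hu : u = 0
  · rw [cm_eq_one]
    exact hz _ (by rw [hx, hu, h.zero]) _
  by_cases hv : v = 0
  · rw [cm_eq_one]
    exact (hz _ (by rw [hx, hv, h.zero]) _).symm
  by_cases huv : u = v
  · rw [huv, cm_eq_one]
  have hconst : ∀ u' v' : V, u' ≠ 0 → v' ≠ 0 → u' ≠ v' → cm (x u') (x v') = cm (x u) (x v) := by
    intro u' v' hu' hv' huv'
    obtain ⟨k, -, hk1, hk2⟩ := h.exists_conj_pair hu hv huv hu' hv' huv'
    obtain ⟨T, rfl⟩ := hs k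
    have e1 : π (T * x u * T⁻¹) = th u' := by rw [map_mul, map_mul, map_inv, hx, hk1]
    have e2 : π (T * x v * T⁻¹) = th v' := by rw [map_mul, map_mul, map_inv, hx, hk2]
    rw [← hcc _ _ u' v' e1 e2]
    have : cm (T * x u * T⁻¹) (T * x v * T⁻¹) = T * cm (x u) (x v) * T⁻¹ := by unfold cm; group
    rw [this, ← hcen u v T, mul_inv_cancel_right]
  obtain ⟨w, hw0, hwu, hwv, hwuv⟩ := exists_third u v
  have e1 : cm (x u) (x v * x w) = cm (x u) (x (v + w)) := hcc _ _ u (v + w) (hx u) (by rw [map_mul, hx, hx, h.add])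
  rw [cm_mul_right (hcen u w), hconst u w hu hw0 hwu.symm, hconst u (v + w) hu
    (fun hh => hwv ((add_eq_zero_iff _ _).1 hh).symm)
    (fun hh => hwuv (by rw [hh, add_comm v w, add_assoc, v_add_self, add_zero]))] at e1
  exact mul_eq_left.1 e1

end Sit

end Cfsg.Agent.H336.LinFour
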