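import Cfsg.Agent.H336.LinFour.FormData
import Cfsg.Agent.H336.LinFour.Equiv
import Cfsg.Agent.H131.ClassTwo
import Cfsg.Agent.LieClassical.HermBasic
import Cfsg.Agent.LieClassical.OmegaReindex
import Cfsg.Agent.LieClassical.OrthCenter
import Cfsg.Agent.ClassicalGeometry.OmegaIndex
import Cfsg.Prelude.Def_LieTypeChar

/-!
# The classical groups of odd characteristic
-/

set_option autoImplicit false
set_option linter.unusedSectionVars false

namespace Cfsg.Agent.H336.LinFour.ClassInst

open Subgroup Cfsg Matrix Cfsg.Agent.H336.LinFour Cfsg.Agent.H336.LinFour.Wt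
open Cfsg.Agent.H131.ClassTwo

variable {F : Type*} [Field F] [Fintype F]

theorem algebraMap_mat {κ : Type*} [Fintype κ] [DecidableEq κ] (c : F) :
    algebraMap F (Matrix κ κ F) c = c • 1 := Algebra.algebraMap_eq_smul_one c

theorem row_sl (h2 : (2 : F) ≠ 0) {n : ℕ} (hn : 1 ≤ n) {th : V → ProjectiveSpecialLinearGroup (Fin n) F}
    {O K0 : Subgroup (ProjectiveSpecialLinearGroup (Fin n) F)} (h : Sit th O K0) : False := by
  haveI : Nonempty (Fin n) := ⟨⟨0, hn⟩⟩
  have H : Lin F (QuotientGroup.mk' (center (SpecialLinearGroup (Fin n) F))) (toM n F) :=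
    Lin.mk_quot (toM n F) (fun g g' hg => Subtype.ext hg) (fun z hz => by
      obtain ⟨c, -, hc⟩ := sl_center hz
      exact ⟨c, by rw [hc, algebraMap_mat]⟩)
  have : Finite (SpecialLinearGroup (Fin n) F) := inferInstance
  refine H.false_of_idx h h2 fun Y hY hY0 hYx => ?_
  refine index_le_of_hom (GeneralLinearGroup.det.comp (dsU h2 hY hY0)) _ ?_ (det_range_le h2 hY hY0)
  intro e he
  have hdet : (Ds e : Matrix (Fin n) (Fin n) F).det = 1 := congrArg Units.val (MonoidHom.mem_ker.1 he)
  exact ⟨⟨Ds e, hdet⟩, rfl⟩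

theorem row_sp (h2 : (2 : F) ≠ 0) {m : ℕ} (hm : 1 ≤ m) {th : V → PSp m F} {O K0 : Subgroup (PSp m F)}
    (h : Sit th O K0) : False := by
  haveI : Nonempty (Fin m ⊕ Fin m) := ⟨Sum.inl ⟨0, hm⟩⟩
  have H : Lin F (QuotientGroup.mk' (center (symplecticGroup (Fin m) F))) (toS m F) :=
    Lin.mk_quot (toS m F) (fun g g' hg => Subtype.ext hg) (fun z hz => by
      obtain ⟨c, -, hc⟩ := sp_center hz
      exact ⟨c, by rw [hc, algebraMap_mat]⟩)
  have : Finite (symplecticGroup (Fin m) F) := Subtype.finite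
  have hS : SForm (sympForm m F) (fun c : F => c) :=
    { add_left := ClassicalGeometry.SympBasic.sympForm_add_left
      add_right := ClassicalGeometry.SympBasic.sympForm_add_right
      smul_left := ClassicalGeometry.SympBasic.sympForm_smul_left
      smul_right := ClassicalGeometry.SympBasic.sympForm_smul_right
      ne := by
        refine ⟨Pi.single (Sum.inl ⟨0, hm⟩) 1, Pi.single (Sum.inr ⟨0, hm⟩) 1, ?_⟩
        rw [ClassicalGeometry.SympBasic.sympForm_single_inl_left]
        simp }
  refine H.false_of_idx h h2 fun Y hY hY0 hYx => ?_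
  have htop : Hs (F := F) h2 hY hY0 (toS m F) = ⊤ := by
    rw [eq_top_iff]
    intro e _
    have hiso : ∀ (g : symplecticGroup (Fin m) F) u v, sympForm m F (toS m F g *ᵥ u) (toS m F g *ᵥ v) =
        sympForm m F u v := fun g u v => ClassicalGeometry.SympBasic.sympForm_mulVec g.2 u v
    have h3 : (Ds e : Matrix (Fin m ⊕ Fin m) (Fin m ⊕ Fin m) F) ∈ symplecticGroup (Fin m) F :=
      ClassicalGeometry.SympBasic.mem_symplecticGroup_iff.2 (hS.Ds_iso H h h2 hiso hY hY0 hYx e)
    exact ⟨⟨_, h3⟩, rfl⟩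
  rw [htop, index_top]
  norm_num

theorem row_su {q : ℕ} (hF : Fintype.card F = q ^ 2) (h2 : (2 : F) ≠ 0) {n : ℕ} (hn : 3 ≤ n) {th : V → PSU n F q}
    {O K0 : Subgroup (PSU n F q)} (h : Sit th O K0) : False := by
  haveI : Nonempty (Fin n) := ⟨⟨0, by omega⟩⟩
  have H : Lin F (QuotientGroup.mk' (center (SU n F q))) (toU n F q) :=
    Lin.mk_quot (toU n F q) (fun g g' hg => Subtype.ext (Subtype.ext hg)) (fun z hz => by
      obtain ⟨c, -, hc⟩ := su_center hF hn hz
      exact ⟨c, by rw [hc, algebraMap_mat]⟩)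
  have : Finite (SU n F q) := inferInstance
  have hS : SForm (hermForm n F q) (fun c : F => c ^ q) :=
    { add_left := LieClassical.HermBasic.herm_add_left
      add_right := LieClassical.HermBasic.herm_add_right hF
      smul_left := LieClassical.HermBasic.herm_smul_left
      smul_right := LieClassical.HermBasic.herm_smul_right
      ne := by
        refine ⟨Pi.single ⟨0, by omega⟩ 1, Pi.single ⟨0, by omega⟩ 1, ?_⟩
        have hq : q ≠ 0 := by
          rintro rfl
          have := Fintype.card_pos (α := F)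
          rw [hF] at this
          simp at this
        unfold hermForm
        rw [Finset.sum_eq_single (⟨0, by omega⟩ : Fin n)]
        · simp
        · intro j _ hj
          simp [hj]
        · simp }
  refine H.false_of_idx h h2 fun Y hY hY0 hYx => ?_
  refine index_le_of_hom (GeneralLinearGroup.det.comp (dsU h2 hY hY0)) _ ?_ (det_range_le h2 hY hY0)
  intro e he
  have hdet : (Ds e : Matrix (Fin n) (Fin n) F).det = 1 := congrArg Units.val (MonoidHom.mem_ker.1 he)
  have hiso : ∀ (g : SU n F q) u v, hermForm n F q (toU n F q g *ᵥ u) (toU n F q g *ᵥ v) =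
      hermForm n F q u v := fun g u v => g.2 u v
  exact ⟨⟨⟨Ds e, hdet⟩, fun u v => hS.Ds_iso H h h2 hiso hY hY0 hYx e u v⟩, rfl⟩

/-- the matrix of an element of `Ω(Q)` -/
def toO {κ : Type} [Fintype κ] [DecidableEq κ] (Q : (κ → F) → F) : Omega F Q →* Matrix κ κ F where
  toFun g := (((g : isometryGroup F Q) : GeneralLinearGroup κ F) : Matrix κ κ F)
  map_one' := rfl
  map_mul' _ _ := rfl

theorem row_om {κ : Type} [Fintype κ] [DecidableEq κ] (h2 : (2 : F) ≠ 0) (Q : QuadraticForm F (κ → F))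
    (hQ : (QuadraticMap.polarBilin Q).Nondegenerate) (hκ : 3 ≤ Fintype.card κ) (hs : ∃ u : κ → F, u ≠ 0 ∧ Q u = 0)
    {th : V → POmega F (⇑Q)} {O K0 : Subgroup (POmega F (⇑Q))} (h : Sit th O K0) : False := by
  haveI : Nonempty κ := Fintype.card_pos_iff.1 (by omega)
  have H : Lin F (QuotientGroup.mk' (center (Omega F (⇑Q)))) (toO (⇑Q)) :=
    Lin.mk_quot (toO (⇑Q)) (fun g g' hg => Subtype.ext (Subtype.ext (Units.ext hg))) (fun z hz => by
      rcases (LieClassical.OrthCenter.mem_center_omega_iff hQ hκ hs z).1 hz with h1 | h1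
      · exact ⟨1, by rw [map_one]; exact h1⟩
      · exact ⟨-1, by rw [map_neg, map_one]; exact h1⟩)
  have : Finite (Omega F (⇑Q)) := inferInstance
  have hS : SForm (QuadraticMap.polar (⇑Q)) (fun c : F => c) :=
    { add_left := QuadraticMap.polar_add_left Q
      add_right := QuadraticMap.polar_add_right Q
      smul_left := fun c u v => by rw [QuadraticMap.polar_smul_left, smul_eq_mul]
      smul_right := fun c u v => by rw [QuadraticMap.polar_smul_right, smul_eq_mul]
      ne := by
        by_contra hcon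
        push Not at hcon
        have hne : ∃ u : κ → F, u ≠ 0 := exists_ne 0
        obtain ⟨u, hu⟩ := hne
        apply hu
        exact hQ.1 u fun v => hcon u v }
  have hhalf : ∀ v, QuadraticMap.polar (⇑Q) v v = 2 * Q v := by
    intro v
    rw [QuadraticMap.polar, ← two_smul F v, QuadraticMap.map_smul, smul_eq_mul]
    ring
  refine H.false_of_idx h h2 fun Y hY hY0 hYx => ?_
  have hiso : ∀ (g : Omega F (⇑Q)) u v, QuadraticMap.polar (⇑Q) (toO (⇑Q) g *ᵥ u) (toO (⇑Q) g *ᵥ v) =
      QuadraticMap.polar (⇑Q) u v := by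
    intro g u v
    have hg : ∀ w, Q (toO (⇑Q) g *ᵥ w) = Q w := fun w => (g : isometryGroup F (⇑Q)).2 w w
    rw [QuadraticMap.polar, QuadraticMap.polar, ← mulVec_add, hg, hg, hg]
  have hds : ∀ (e : X F Y → ℤˣ) w, Q (Ds e *ᵥ w) = Q w := by
    intro e w
    have h3 := hS.Ds_iso H h h2 hiso hY hY0 hYx e w w
    rw [hhalf, hhalf] at h3
    exact mul_left_cancel₀ h2 h3
  let δ : (X F Y → ℤˣ) →* isometryGroup F (⇑Q) :=
    (dsU h2 hY hY0).codRestrict (isometryGroup F (⇑Q)) (fun e w _ => hds e w)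
  refine index_le_of_hom ((QuotientGroup.mk' (Omega F (⇑Q))).comp δ) _ ?_ ?_
  · intro e he
    have h3 : δ e ∈ Omega F (⇑Q) := by
      rw [MonoidHom.mem_ker, MonoidHom.comp_apply, ← MonoidHom.mem_ker, QuotientGroup.ker_mk'] at he
      exact he
    exact ⟨⟨δ e, h3⟩, rfl⟩
  · have h3 : (Omega F (⇑Q)).index = 4 := ClassicalGeometry.OmegaIndex.index_Omega h2 (by omega) Q hQ
    have hfin : Finite (isometryGroup F (⇑Q)) := inferInstance
    calc Nat.card _ ≤ Nat.card (isometryGroup F (⇑Q) ⧸ Omega F (⇑Q)) :=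
          Nat.card_le_card_of_injective _ (Subgroup.subtype_injective _)
      _ = 4 := h3

/-! ### the rows -/

theorem two_ne_zero_of_char {p : ℕ} [CharP F p] (hp : p ≠ 2) : (2 : F) ≠ 0 := by
  intro h
  have h1 : ((2 : ℕ) : F) = 0 := by exact_mod_cast h
  have h3 := (CharP.cast_eq_zero_iff F p 2).1 h1
  rcases (Nat.dvd_prime Nat.prime_two).1 h3 with h4 | h4
  · exact CharP.ringChar_ne_one (R := F) ((CharP.eq F (ringChar.charP F) (h4 ▸ inferInstance : CharP F 1)))
  · exact hp h4

end Cfsg.Agent.H336.LinFour.ClassInst
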