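import Cfsg.Agent.H336.LinFour.ClassInst
import Cfsg.Agent.SignalizersComponents.SLQuasisimple

/-!
# The classical groups: only characteristic 2 remains
-/

set_option autoImplicit false

namespace Cfsg.Agent.H336.LinFour.ClassRow

open Subgroup Cfsg Matrix Cfsg.Agent.H336.LinFour Cfsg.Agent.H336.LinFour.ClassInst
open Cfsg.Agent.LieClassical.OmegaReindex

theorem charP_two_or {F : Type*} [Field F] [Finite F] : CharP F 2 ∨ (2 : F) ≠ 0 := by
  by_cases h : (2 : F) = 0
  · exact Or.inl (CharTwo.of_one_ne_zero_of_two_eq_zero one_ne_zero h)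
  · exact Or.inr h

theorem row_om_eq {F : Type} [Field F] [Fintype F] {κ : Type} [Fintype κ] [DecidableEq κ] (h2 : (2 : F) ≠ 0)
    (Q : QuadraticForm F (κ → F)) (Q' : (κ → F) → F) (hQQ : ⇑Q = Q')
    (hQ : (QuadraticMap.polarBilin Q).Nondegenerate) (hκ : 3 ≤ Fintype.card κ) (hs : ∃ u : κ → F, u ≠ 0 ∧ Q' u = 0)
    {th : V → POmega F Q'} {O K0 : Subgroup (POmega F Q')} (h : Sit th O K0) : False := by
  subst hQQ
  exact row_om h2 Q hQ hκ hs h

theorem charTwo_of_classical {K : Type*} [Group K] [Finite K] {th : V → K} {O K0 : Subgroup K} (h : Sit th O K0)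
    (hK : IsPSL K ∨ IsPSp K ∨ IsPSU K ∨ IsPOmegaOdd K ∨ IsPOmegaPlus K ∨ IsPOmegaMinus K) :
    IsLieTypeChar 2 K := by
  rcases hK with hK | hK | hK | hK | hK | hK
  · obtain ⟨F, _, _, n, hn, h4, ⟨e⟩⟩ := hK
    rcases charP_two_or (F := F) with h2 | h2
    · exact Or.inl ⟨F, inferInstance, inferInstance, h2, n, hn, h4, ⟨e⟩⟩
    · exact (row_sl h2 (by omega) (h.equiv e)).elim
  · obtain ⟨F, _, _, m, hm, h4, ⟨e⟩⟩ := hK
    rcases charP_two_or (F := F) with h2 | h2
    · exact Or.inr (Or.inl ⟨F, inferInstance, inferInstance, h2, m, hm, h4, ⟨e⟩⟩)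
    · exact (row_sp h2 (by omega) (h.equiv e)).elim
  · obtain ⟨F, _, _, n, q, hF, hn, h4, ⟨e⟩⟩ := hK
    rcases charP_two_or (F := F) with h2 | h2
    · exact Or.inr (Or.inr (Or.inl ⟨F, inferInstance, inferInstance, h2, n, q, hF, hn, h4, ⟨e⟩⟩))
    · exact (row_su hF h2 hn (h.equiv e)).elim
  · obtain ⟨F, _, _, m, hm, hodd, ⟨e⟩⟩ := hK
    have h2 : (2 : F) ≠ 0 := Cfsg.Agent.SignalizersComponents.SLQuasisimple.two_ne_zero_of_odd hodd
    refine (row_om_eq h2 (quadOdd m F) _ (coe_quadOdd m F) (quadOdd_nondegenerate h2) ?_ ?_ (h.equiv e)).elim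
    · simp; omega
    · refine ⟨Pi.single (.inr (.inl ⟨0, by omega⟩)) 1, ?_, ?_⟩
      · intro hh
        have := congrFun hh (.inr (.inl ⟨0, by omega⟩))
        simp at this
      · simp [quadFormOdd]
  · obtain ⟨F, _, _, m, hm, ⟨e⟩⟩ := hK
    rcases charP_two_or (F := F) with h2 | h2
    · exact Or.inr (Or.inr (Or.inr (Or.inr (Or.inl ⟨F, inferInstance, inferInstance, h2, m, hm, ⟨e⟩⟩))))
    · refine (row_om_eq h2 (quadPlus m F) _ (coe_quadPlus m F) quadPlus_nondegenerate ?_ ?_ (h.equiv e)).elim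
      · simp; omega
      · refine ⟨Pi.single (.inl ⟨0, by omega⟩) 1, ?_, ?_⟩
        · intro hh
          have := congrFun hh (.inl ⟨0, by omega⟩)
          simp at this
        · simp [quadFormPlus]
  · obtain ⟨F, _, _, m, a, b, hm, hab, ⟨e⟩⟩ := hK
    rcases charP_two_or (F := F) with h2 | h2
    · exact Or.inr (Or.inr (Or.inr (Or.inr (Or.inr (Or.inl ⟨F, inferInstance, inferInstance, h2, m, a, b, hm, hab, ⟨e⟩⟩)))))
    · refine (row_om_eq h2 (quadMinus (m - 1) F a b) _ (coe_quadMinus (m - 1) F a b) (quadMinus_nondegenerate hab) ?_ ?_ (h.equiv e)).elim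
      · simp; omega
      · refine ⟨Pi.single (.inl (.inl ⟨0, by omega⟩)) 1, ?_, ?_⟩
        · intro hh
          have := congrFun hh (.inl (.inl ⟨0, by omega⟩))
          simp at this
        · simp [quadFormMinus]

end Cfsg.Agent.H336.LinFour.ClassRow
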