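import Cfsg.Agent.H336.LinFour.Count

/-!
# Matrix groups preserving a form: the sign elements are isometries; the main contradiction
-/

set_option autoImplicit false
set_option linter.unusedSectionVars false

namespace Cfsg.Agent.H336.LinFour

open Subgroup Matrix Cfsg.Agent.H336.LinFour.Wt

/-- **main contradiction**, from a bound of the index of the sign functions realised in `L` -/
theorem Lin.false_of_idx {F R K L : Type*} [Field F] [Ring R] [Algebra F R] [Nontrivial R] [Group K] [Group L]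
    [Finite K] [Finite L] {π : L →* K} {ι : L →* R} (H : Lin F π ι) {th : V → K} {O K0 : Subgroup K}
    (h : Sit th O K0) (h2 : (2 : F) ≠ 0)
    (hidx : ∀ (Y : V → R) (hY : ∀ u v, Y (u + v) = Y u * Y v) (hY0 : Y 0 = 1),
      (∀ v, ∃ g : L, ∃ c : F, c ≠ 0 ∧ π g = th v ∧ Y v = c • ι g) →
      (Hs (F := F) h2 hY hY0 ι).index ≤ 4) : False := by
  obtain ⟨Y, hY, hY0, hYx⟩ := H.exists_Y h
  exact H.false_of_card_X h h2 hY hY0 hYx (H.card_X_le h h2 hY hY0 hYx (hidx Y hY hY0 hYx))

/-- `K = L / Z(L)` -/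
theorem Lin.mk_quot {F R L : Type*} [Field F] [Ring R] [Algebra F R] [Group L] (ι : L →* R)
    (hinj : Function.Injective ι) (hz : ∀ z ∈ center L, ∃ c : F, ι z = algebraMap F R c) :
    Lin F (QuotientGroup.mk' (center L)) ι where
  surj := QuotientGroup.mk'_surjective _
  ker g := by
    rw [← MonoidHom.mem_ker, QuotientGroup.ker_mk']
    refine ⟨hz g, ?_⟩
    rintro ⟨c, hc⟩
    rw [mem_center_iff]
    intro x
    apply hinj
    rw [map_mul, map_mul, hc]
    exact (Algebra.commutes c _).symm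
  inj := hinj

theorem index_le_of_hom {E Q : Type*} [Group E] [Finite E] [Group Q] (θ : E →* Q) (H : Subgroup E)
    (hker : θ.ker ≤ H) {n : ℕ} (hn : Nat.card θ.range ≤ n) : H.index ≤ n := by
  have h1 : H.index ∣ θ.ker.index := index_dvd_of_le hker
  have h0 : 0 < θ.ker.index := Nat.pos_of_ne_zero Subgroup.index_ne_zero_of_finite
  rw [Subgroup.index_ker] at h1 h0
  exact (Nat.le_of_dvd h0 h1).trans hn

/-- the sign elements as units -/
noncomputable def dsU {F R : Type*} [Field F] [Ring R] [Algebra F R] {Y : V → R} (h2 : (2 : F) ≠ 0)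
    (hY : ∀ u v, Y (u + v) = Y u * Y v) (hY0 : Y 0 = 1) : (X F Y → ℤˣ) →* Rˣ where
  toFun e := ⟨Ds e, Ds e, Ds_sq h2 hY hY0 e, Ds_sq h2 hY hY0 e⟩
  map_one' := Units.ext (Ds_one h2 hY0)
  map_mul' e e' := Units.ext (Ds_mul h2 hY e e')

/-- a sesquilinear form -/
structure SForm {F κ : Type*} [Field F] (f : (κ → F) → (κ → F) → F) (σ : F → F) : Prop where
  add_left : ∀ u v w, f (u + v) w = f u w + f v w
  add_right : ∀ u v w, f u (v + w) = f u v + f u w
  smul_left : ∀ c u v, f (c • u) v = c * f u v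
  smul_right : ∀ c u v, f u (c • v) = σ c * f u v
  ne : ∃ u v, f u v ≠ 0

namespace SForm

variable {F κ : Type*} [Field F] {f : (κ → F) → (κ → F) → F} {σ : F → F}

/-- the field automorphism -/
noncomputable def hom (S : SForm f σ) : F →+* F where
  toFun := σ
  map_one' := by
    obtain ⟨u, v, h⟩ := S.ne
    have := S.smul_right 1 u v
    rw [one_smul] at this
    exact mul_right_cancel₀ h (by rw [← this, one_mul])
  map_mul' a b := by
    obtain ⟨u, v, h⟩ := S.ne
    apply mul_right_cancel₀ h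
    rw [← S.smul_right, mul_smul, S.smul_right, S.smul_right, mul_assoc]
  map_zero' := by
    obtain ⟨u, v, h⟩ := S.ne
    have h0 := S.add_right u 0 0
    rw [add_zero] at h0
    have h1 : f u 0 = 0 := left_eq_add.1 h0
    have := S.smul_right 0 u v
    rw [zero_smul, h1] at this
    exact (mul_eq_zero.1 this.symm).resolve_right h
  map_add' a b := by
    obtain ⟨u, v, h⟩ := S.ne
    apply mul_right_cancel₀ h
    rw [add_mul, ← S.smul_right, ← S.smul_right, ← S.smul_right, add_smul, S.add_right]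

theorem hom_apply (S : SForm f σ) (c : F) : S.hom c = σ c := rfl

variable [Fintype κ] [DecidableEq κ]

theorem sum_left (S : SForm f σ) {T : Type*} (s : Finset T) (g : T → (κ → F)) (v : κ → F) :
    f (∑ i ∈ s, g i) v = ∑ i ∈ s, f (g i) v := by
  classical
  have h0 : f 0 v = 0 := by
    have h0 := S.add_left 0 0 v
    rw [add_zero] at h0
    exact left_eq_add.1 h0
  induction s using Finset.induction_on with
  | empty => simpa using h0
  | insert a s ha ih => rw [Finset.sum_insert ha, Finset.sum_insert ha, S.add_left, ih]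

theorem sum_right (S : SForm f σ) {T : Type*} (s : Finset T) (g : T → (κ → F)) (u : κ → F) :
    f u (∑ i ∈ s, g i) = ∑ i ∈ s, f u (g i) := by
  classical
  have h0 : f u 0 = 0 := by
    have h0 := S.add_right u 0 0
    rw [add_zero] at h0
    exact left_eq_add.1 h0
  induction s using Finset.induction_on with
  | empty => simpa using h0
  | insert a s ha ih => rw [Finset.sum_insert ha, Finset.sum_insert ha, S.add_right, ih]

variable {K L : Type*} [Group K] [Group L] {π : L →* K} {ι : L →* Matrix κ κ F} {th : V → K} {O K0 : Subgroup K}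
  {Y : V → Matrix κ κ F}

/-- the elements `Y v` are isometries -/
theorem Y_iso [Nonempty κ] (S : SForm f σ) (H : Lin F π ι) (h : Sit th O K0)
    (hiso : ∀ g u v, f (ι g *ᵥ u) (ι g *ᵥ v) = f u v)
    (hY : ∀ u v, Y (u + v) = Y u * Y v) (hY0 : Y 0 = 1)
    (hYx : ∀ v, ∃ g : L, ∃ c : F, c ≠ 0 ∧ π g = th v ∧ Y v = c • ι g) (w : V) (u v : κ → F) :
    f (Y w *ᵥ u) (Y w *ᵥ v) = f u v := by
  have hYsq : ∀ v, Y v * Y v = 1 := fun v => by rw [← hY, v_add_self, hY0]
  -- the multiplier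
  have h1 : ∀ w, ∃ m : F, m ≠ 0 ∧ ∀ u v, f (Y w *ᵥ u) (Y w *ᵥ v) = m * f u v := by
    intro w
    obtain ⟨g, c, hc0, -, hc⟩ := hYx w
    refine ⟨c * σ c, mul_ne_zero hc0 ?_, fun u v => ?_⟩
    · rw [← S.hom_apply]; exact (map_ne_zero _).2 hc0
    · rw [hc, smul_mulVec, smul_mulVec, S.smul_left, S.smul_right, hiso, mul_assoc]
  choose m hm0 hm using h1
  obtain ⟨u0, v0, h0⟩ := S.ne
  have hadd : ∀ w w', m (w + w') = m w * m w' := by
    intro w w'
    apply mul_right_cancel₀ h0
    rw [← hm, hY, ← mulVec_mulVec, ← mulVec_mulVec, hm, hm, mul_assoc]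
  have hconj : ∀ w w', w ≠ 0 → w' ≠ 0 → m w = m w' := by
    intro w w' hw hw'
    obtain ⟨k, -, hk⟩ := h.exists_conj hw hw'
    obtain ⟨T, rfl⟩ := H.surj k
    obtain ⟨x, c, hc0, hx, hc⟩ := hYx w
    obtain ⟨x', c', hc0', hx', hc'⟩ := hYx w'
    have e1 : π (T * x * T⁻¹) = π x' := by rw [map_mul, map_mul, map_inv, hx, hx', hk]
    obtain ⟨d, -, hd⟩ := H.exists_smul e1
    -- `ι T * Y w * ι T⁻¹ = e • Y w'`
    have e2 : ι T * Y w * ι T⁻¹ = (c * d * c'⁻¹) • Y w' := by
      rw [hc, hc', mul_smul_comm, smul_mul_assoc, ← map_mul, ← map_mul, hd, smul_smul, smul_smul]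
      congr 1
      field_simp
    have hTT : ι T⁻¹ * ι T = 1 := by rw [← map_mul, inv_mul_cancel, map_one]
    have e3 : (c * d * c'⁻¹) * (c * d * c'⁻¹) = 1 := by
      have e4 : (ι T * Y w * ι T⁻¹) * (ι T * Y w * ι T⁻¹) = 1 := by
        calc (ι T * Y w * ι T⁻¹) * (ι T * Y w * ι T⁻¹) = ι T * Y w * (ι T⁻¹ * ι T) * (Y w * ι T⁻¹) := by
              simp only [mul_assoc]
          _ = ι T * (Y w * Y w) * ι T⁻¹ := by rw [hTT]; simp only [mul_assoc, mul_one]
          _ = 1 := by rw [hYsq, mul_one, ← map_mul, mul_inv_cancel, map_one]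
      rw [e2, smul_mul_smul_comm, hYsq] at e4
      obtain ⟨i⟩ := (inferInstance : Nonempty κ)
      have := congrFun (congrFun e4 i) i
      simpa using this
    have e5 : σ (c * d * c'⁻¹) * (c * d * c'⁻¹) = 1 := by
      rcases mul_self_eq_one_iff.1 e3 with e6 | e6
      · rw [e6, ← S.hom_apply, map_one, mul_one]
      · rw [e6, ← S.hom_apply, map_neg, map_one]; ring
    apply mul_right_cancel₀ h0
    have e7 : f ((ι T * Y w * ι T⁻¹) *ᵥ u0) ((ι T * Y w * ι T⁻¹) *ᵥ v0) = m w * f u0 v0 := by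
      rw [← mulVec_mulVec, ← mulVec_mulVec, ← mulVec_mulVec, ← mulVec_mulVec, hiso, hm, hiso]
    rw [← e7, e2, smul_mulVec, smul_mulVec, S.smul_left, S.smul_right, hm]
    linear_combination (m w' * f u0 v0) * e5
  have hone : ∀ w, m w = 1 := by
    intro w
    by_cases hw : w = 0
    · apply mul_right_cancel₀ h0
      rw [← hm, hw, hY0, one_mulVec, one_mulVec, one_mul]
    · obtain ⟨c, hc0, hcv, -, -⟩ := exists_third w w
      have hvc : w + c ≠ 0 := fun hh => hcv ((add_eq_zero_iff _ _).1 hh).symm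
      have e1 := hadd w c
      rw [hconj (w + c) w hvc hw, hconj c w hc0 hw] at e1
      exact (mul_right_cancel₀ (hm0 w) (by rw [one_mul]; exact e1)).symm
  rw [hm, hone, one_mul]

/-- the sign elements are isometries -/
theorem Ds_iso [Nonempty κ] (S : SForm f σ) (H : Lin F π ι) (h : Sit th O K0) (h2 : (2 : F) ≠ 0)
    (hiso : ∀ g u v, f (ι g *ᵥ u) (ι g *ᵥ v) = f u v)
    (hY : ∀ u v, Y (u + v) = Y u * Y v) (hY0 : Y 0 = 1)
    (hYx : ∀ v, ∃ g : L, ∃ c : F, c ≠ 0 ∧ π g = th v ∧ Y v = c • ι g) (e : X F Y → ℤˣ) (u v : κ → F) :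
    f (Ds e *ᵥ u) (Ds e *ᵥ v) = f u v := by
  have hYsq : ∀ v, Y v * Y v = 1 := fun v => by rw [← hY, v_add_self, hY0]
  have hYs : ∀ w u v, f (Y w *ᵥ u) v = f u (Y w *ᵥ v) := by
    intro w u v
    have h1 := S.Y_iso H h hiso hY hY0 hYx w u (Y w *ᵥ v)
    rwa [mulVec_mulVec, hYsq, one_mulVec] at h1
  have hσsg : ∀ x : ZMod 2, σ (sg F x) = sg F x := by
    intro x
    rw [← S.hom_apply]
    unfold sg
    split_ifs
    · exact map_one _
    · rw [map_neg, map_one]
  have hσ16 : σ (16 : F)⁻¹ = (16 : F)⁻¹ := by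
    rw [← S.hom_apply, map_inv₀, map_ofNat]
  have hPs : ∀ w u v, f (P F Y w *ᵥ u) v = f u (P F Y w *ᵥ v) := by
    intro w u v
    unfold P
    rw [smul_mulVec, smul_mulVec, S.smul_left, S.smul_right, hσ16, sum_mulVec, sum_mulVec, S.sum_left, S.sum_right]
    congr 1
    refine Finset.sum_congr rfl fun i _ => ?_
    rw [smul_mulVec, smul_mulVec, S.smul_left, S.smul_right, hσsg, hYs]
  have hσex : ∀ w, σ (ex e w) = ex e w := by
    intro w
    rw [← S.hom_apply]
    rcases ex_cases e w with h1 | h1 <;> rw [h1]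
    · exact map_one _
    · rw [map_neg, map_one]
  have hDs : ∀ u v, f (Ds e *ᵥ u) v = f u (Ds e *ᵥ v) := by
    intro u v
    unfold Ds D
    rw [sum_mulVec, sum_mulVec, S.sum_left, S.sum_right]
    refine Finset.sum_congr rfl fun i _ => ?_
    rw [smul_mulVec, smul_mulVec, S.smul_left, S.smul_right, hσex, hPs]
  rw [hDs, mulVec_mulVec, Ds_sq h2 hY hY0, one_mulVec]

end SForm

/-- the determinant of the sign elements -/
theorem det_range_le {F κ : Type*} [Field F] [Fintype κ] [DecidableEq κ] {Y : V → Matrix κ κ F} (h2 : (2 : F) ≠ 0)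
    (hY : ∀ u v, Y (u + v) = Y u * Y v) (hY0 : Y 0 = 1) :
    Nat.card (GeneralLinearGroup.det.comp (dsU h2 hY hY0)).range ≤ 4 := by
  have h1 : (GeneralLinearGroup.det.comp (dsU h2 hY hY0)).range ≤ rootsOfUnity 2 F := by
    rintro _ ⟨e, rfl⟩
    rw [mem_rootsOfUnity, pow_two, ← map_mul]
    have : e * e = 1 := by
      funext u
      exact Int.units_mul_self _
    rw [this, map_one]
  have h3 := Subgroup.card_dvd_of_le h1
  have h4 : Nat.card (rootsOfUnity 2 F) ≤ 2 := card_rootsOfUnity F 2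
  have h5 : 0 < Nat.card (rootsOfUnity 2 F) := Nat.card_pos
  exact (Nat.le_of_dvd h5 h3).trans (h4.trans (by norm_num))

end Cfsg.Agent.H336.LinFour
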