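import Cfsg.Agent.H336.LinFour.Reduce
import Mathlib.GroupTheory.Transfer

/-!
# Reduction theorem
-/

set_option autoImplicit false

namespace Cfsg.Agent.H336.LinFour

open Subgroup Pointwise Cfsg

namespace Sit

variable {G : Type*} [Group G] {th : V → G} {O K0 : Subgroup G}

theorem exists_not_comm [Finite G] (h : Sit th O K0) (K : Subgroup G) [hKs : IsSimpleGroup K]
    (hKc : ¬ IsMulCommutative K) (hK : ∀ v, th v ∈ K) :
    ∃ n ∈ K, n ∈ normalizer (h.A : Set G) ∧ ∃ v, n * th v ≠ th v * n := by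
  by_contra hcon
  push Not at hcon
  have : Fact (Nat.Prime 2) := ⟨Nat.prime_two⟩
  have hAK : h.A ≤ K := by rintro _ ⟨v, rfl⟩; exact hK v
  obtain ⟨P, hP⟩ := (h.isPGroup_A.comap_of_injective K.subtype K.subtype_injective).exists_le_sylow
  change h.A.subgroupOf K ≤ P at hP
  have hnorm : ∀ x : K, x ∈ normalizer (h.A.subgroupOf K : Set K) → ∀ v, (x : G) * th v = th v * x := by
    intro x hx
    refine hcon x x.2 ?_
    rw [mem_normalizer_iff] at hx ⊢
    intro a
    constructor
    · intro ha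
      exact mem_subgroupOf.1 ((hx ⟨a, hAK ha⟩).1 (mem_subgroupOf.2 ha))
    · intro ha
      have haK : a ∈ K := by
        have h3 := K.mul_mem (K.mul_mem (K.inv_mem x.2) (hAK ha)) x.2
        have h4 : (x : G)⁻¹ * (x * a * (x : G)⁻¹) * x = a := by group
        rwa [h4] at h3
      exact mem_subgroupOf.1 ((hx ⟨a, haK⟩).2 (mem_subgroupOf.2 ha))
  have hPA : (P : Subgroup K) = h.A.subgroupOf K := by
    refine eq_of_inf_normalizer_le P.2 hP ?_
    rintro x ⟨hxP, hx⟩
    obtain ⟨n, hn⟩ := P.2 ⟨x, hxP⟩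
    rw [mem_subgroupOf]
    have hn' : x ^ 2 ^ n = 1 := congrArg Subtype.val hn
    exact h.mem_of_sq (hnorm x hx) (n := n) (by
      have := congrArg Subtype.val hn'
      exact this)
  have hNC : normalizer ((P : Subgroup K) : Set K) ≤ centralizer ((P : Subgroup K) : Set K) := by
    intro x hx
    rw [hPA] at hx ⊢
    rw [mem_centralizer_iff]
    intro y hy
    obtain ⟨v, hv⟩ := mem_subgroupOf.1 hy
    apply Subtype.ext
    change (y : G) * x = x * y
    rw [← hv]
    exact (hnorm x hx v).symm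
  have hcomp := MonoidHom.ker_transferSylow_isComplement' P hNC
  have hcard : Nat.card (P : Subgroup K) = 16 := by
    rw [hPA, Nat.card_congr (subgroupOfEquivOfLe hAK).toEquiv, h.card_A]
  rcases (inferInstance : (MonoidHom.transferSylow P hNC).ker.Normal).eq_bot_or_eq_top with h1 | h1
  · rw [h1] at hcomp
    have h2 : (P : Subgroup K) = ⊤ := by
      rwa [isComplement'_bot_left] at hcomp
    apply hKc
    refine ⟨⟨fun x y => ?_⟩⟩
    have hx : x ∈ (P : Subgroup K) := by rw [h2]; trivial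
    have hy : y ∈ (P : Subgroup K) := by rw [h2]; trivial
    rw [hPA] at hx hy
    obtain ⟨u, hu⟩ := mem_subgroupOf.1 hx
    obtain ⟨v, hv⟩ := mem_subgroupOf.1 hy
    apply Subtype.ext
    change (x : G) * y = y * x
    rw [← hu, ← hv]
    exact h.comm u v
  · rw [h1] at hcomp
    have h2 : (P : Subgroup K) = ⊥ := by
      rwa [isComplement'_top_left] at hcomp
    rw [h2, card_bot] at hcard
    exact absurd hcard (by decide)

/-- **Reduction.** -/
theorem reduce [Finite G] (h : Sit th O K0) (hO : oddCore G = ⊥) : h.A.Normal ∨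
    ∃ K : Subgroup G, K.Normal ∧ IsSimpleGroup K ∧ ¬ IsMulCommutative K ∧ centralizer (K : Set G) = ⊥ ∧
      ∃ hK : ∀ v, th v ∈ K, Sit (fun v => (⟨th v, hK v⟩ : K)) (O.subgroupOf K) (K0.subgroupOf K) := by
  by_cases hN : h.A.Normal
  · exact Or.inl hN
  · right
    obtain ⟨K, hKn, hKs, hKc, hC, hK⟩ := h.exists_simple hO hN
    exact ⟨K, hKn, hKs, hKc, hC, hK, h.sub K hK (h.exists_not_comm K hKc hK)⟩

end Sit

end Cfsg.Agent.H336.LinFour
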