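import Cfsg.Agent.H336.LinFour.Basic
import Cfsg.Prelude.Def_CaseTheorems
import Cfsg.Prelude.Def_Transfer

/-!
# The case `A` normal, `O(G) = 1`
-/

set_option autoImplicit false

namespace Cfsg.Agent.H336.LinFour

open Subgroup Pointwise Cfsg

namespace Sit

variable {G : Type*} [Group G] {th : V → G} {O K0 : Subgroup G}

theorem O_eq_bot [Finite G] (h : Sit th O K0) (hO : oddCore G = ⊥) (hn : h.A.Normal) : O = ⊥ := by
  have hN : ∀ n : G, ∀ v, ∃ u, n * th v * n⁻¹ = th u := by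
    intro n v
    obtain ⟨u, hu⟩ := hn.conj_mem _ (h.th_mem v) n
    exact ⟨u, hu.symm⟩
  have hOn : O.Normal := ⟨fun x hx n => h.oN x hx n (hN n)⟩
  rw [eq_bot_iff, ← hO]
  exact le_sSup ⟨hOn, Nat.coprime_two_right.2 h.odd⟩

theorem normal_case [Finite G] (h : Sit th O K0) (hO : oddCore G = ⊥) (hn : h.A.Normal) :
    ∃ (E' K' : Subgroup G), E'.Normal ∧ IsElementaryAbelian 2 E' ∧ Nat.card E' = 16 ∧
      centralizer (E' : Set G) = E' ∧ E' ⊓ K' = ⊥ ∧ E' ⊔ K' = ⊤ ∧ Nonempty (K' ≃* GL (Fin 4) (ZMod 2)) := by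
  have hOb := h.O_eq_bot hO hn
  have hN : normalizer (h.A : Set G) = ⊤ := normalizer_eq_top_iff.2 hn
  have hc : ∀ x : G, (∀ v, x * th v = th v * x) → x ∈ h.A := by
    intro x hx
    obtain ⟨o, ho, v, rfl⟩ := h.cent x hx
    rw [hOb, mem_bot] at ho
    rw [ho, one_mul]
    exact h.th_mem v
  have hk : ∀ k ∈ K0, (∀ v, k * th v = th v * k) → k = 1 := by
    intro k hk hk'
    have := h.k0c k hk hk'
    rwa [hOb, mem_bot] at this
  refine ⟨h.A, K0, hn, ?_, h.card_A, ?_, ?_, ?_, ?_⟩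
  · refine ⟨⟨⟨?_⟩⟩, fun a ha => ?_⟩
    · rintro ⟨_, u, rfl⟩ ⟨_, v, rfl⟩
      exact Subtype.ext (h.comm u v)
    · obtain ⟨v, rfl⟩ := ha
      rw [pow_two, h.sq]
  · apply le_antisymm
    · intro x hx
      apply hc
      intro v
      exact (mem_centralizer_iff.1 hx _ (h.th_mem v)).symm
    · intro x hx
      rw [mem_centralizer_iff]
      rintro _ ⟨v, rfl⟩
      obtain ⟨u, rfl⟩ := hx
      exact h.comm v u
  · rw [eq_bot_iff_forall]
    rintro x ⟨⟨u, rfl⟩, hx2⟩
    exact hk _ hx2 fun v => h.comm u v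
  · rw [eq_top_iff]
    intro x _
    obtain ⟨k, hk0, hk1⟩ := h.rep_surj (h.rep ⟨x, by rw [hN]; trivial⟩)
    have h1 : k⁻¹ * x ∈ h.A := by
      apply hc
      intro v
      have h2 := h.rep_spec ⟨k, h.K0_le hk0⟩ v
      have h3 := h.rep_spec ⟨x, by rw [hN]; trivial⟩ v
      rw [hk1, ← h3] at h2
      change k * th v * k⁻¹ = x * th v * x⁻¹ at h2
      calc k⁻¹ * x * th v = k⁻¹ * (x * th v * x⁻¹) * x := by group
        _ = k⁻¹ * (k * th v * k⁻¹) * x := by rw [h2]
        _ = _ := by group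
    have h2 : x = k * (k⁻¹ * x) := by group
    rw [h2]
    exact mul_mem (mem_sup_right hk0) (mem_sup_left h1)
  · let f : K0 →* S := h.rep.comp (inclusion h.K0_le)
    have hf : Function.Bijective f := by
      constructor
      · rw [injective_iff_map_eq_one]
        intro k hk1
        apply Subtype.ext
        exact hk _ k.2 ((h.rep_eq_one _).1 hk1)
      · intro s
        obtain ⟨k, hk0, hk1⟩ := h.rep_surj s
        exact ⟨⟨k, hk0⟩, hk1⟩
    exact ⟨MulEquiv.ofBijective f hf⟩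

end Sit

end Cfsg.Agent.H336.LinFour
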