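import Cfsg.Agent.H336.LinFour.Basic

/-!
# `Sit` modulo a normal subgroup of odd order
-/

set_option autoImplicit false

namespace Cfsg.Agent.H336.LinFour

open Subgroup Pointwise

/-- a 2-subgroup `B` normalised modulo the odd normal subgroup `M` -/
theorem frattini {G : Type*} [Group G] [Finite G] (M B : Subgroup G) [M.Normal] (hM : Odd (Nat.card M))
    (hB : IsPGroup 2 B) (x : G) (hx : ∀ b ∈ B, ∃ m ∈ M, ∃ c ∈ B, x * b * x⁻¹ = m * c) :
    ∃ m ∈ M, ∀ b ∈ B, (m * x) * b * (m * x)⁻¹ ∈ B := by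
  have : Fact (Nat.Prime 2) := ⟨Nat.prime_two⟩
  set H := M ⊔ B with hH
  have hMB : M ⊓ B = ⊥ := by
    rw [eq_bot_iff]
    rintro y ⟨hyM, hyB⟩
    obtain ⟨n, hn⟩ := hB ⟨y, hyB⟩
    have hn' : y ^ 2 ^ n = 1 := congrArg Subtype.val hn
    have h1 : orderOf (⟨y, hyM⟩ : M) ∣ 2 ^ n := orderOf_dvd_of_pow_eq_one (Subtype.ext hn')
    have h2 : orderOf (⟨y, hyM⟩ : M) ∣ Nat.card M := orderOf_dvd_natCard _
    have h3 : orderOf (⟨y, hyM⟩ : M) = 1 :=
      Nat.eq_one_of_dvd_coprimes (Nat.Coprime.pow_left _ (Nat.coprime_two_left.2 hM)) h1 h2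
    rw [mem_bot]
    exact congrArg Subtype.val (orderOf_eq_one_iff.1 h3)
  have hcard : Nat.card H = Nat.card M * Nat.card B := by
    have h1 := (M.subgroupOf H).card_mul_index
    have h2 : Nat.card (M.subgroupOf H) = Nat.card M := Nat.card_congr (subgroupOfEquivOfLe le_sup_left).toEquiv
    have h3 : (M.subgroupOf H).index = M.relIndex B := by
      change M.relIndex (M ⊔ B) = _
      rw [sup_comm, Subgroup.relIndex_sup_right]
    have h4 : M.relIndex B = Nat.card B := by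
      rw [← Subgroup.inf_relIndex_right, hMB, Subgroup.relIndex_bot_left]
    rw [h2, h3, h4] at h1
    exact h1.symm
  have key : ∀ C : Subgroup G, C ≤ H → Nat.card C = Nat.card B → ¬ 2 ∣ (C.subgroupOf H).index := by
    intro C hC hc
    have h1 := (C.subgroupOf H).card_mul_index
    have h2 : Nat.card (C.subgroupOf H) = Nat.card C := Nat.card_congr (subgroupOfEquivOfLe hC).toEquiv
    rw [h2, hcard, hc, mul_comm (Nat.card M)] at h1
    have h3 := Nat.eq_of_mul_eq_mul_left Nat.card_pos h1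
    rw [h3]
    exact Nat.two_dvd_ne_zero.2 (Nat.odd_iff.1 hM)
  let C : Subgroup G := B.map (MulAut.conj x).toMonoidHom
  have hCH : C ≤ H := by
    rintro _ ⟨b, hb, rfl⟩
    obtain ⟨m, hm, c, hc, h1⟩ := hx b hb
    change x * b * x⁻¹ ∈ H
    rw [h1]
    exact mul_mem (mem_sup_left hm) (mem_sup_right hc)
  have hCcard : Nat.card C = Nat.card B :=
    (Nat.card_congr (B.equivMapOfInjective _ (MulAut.conj x).injective).toEquiv).symm
  have hCp : IsPGroup 2 C := hB.map _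
  let P : Sylow 2 H := IsPGroup.toSylow (hB.comap_of_injective H.subtype H.subtype_injective)
    (key B le_sup_right rfl)
  let P' : Sylow 2 H := IsPGroup.toSylow (hCp.comap_of_injective H.subtype H.subtype_injective)
    (key C hCH hCcard)
  obtain ⟨⟨g, hgH⟩, hg⟩ := MulAction.exists_smul_eq H P' P
  obtain ⟨m, hm, b, hb, rfl⟩ := mem_sup_of_normal_left.1 hgH
  -- `m b C b⁻¹ m⁻¹ = B`
  have h1 : ∀ c ∈ C, (m * b) * c * (m * b)⁻¹ ∈ B := by
    intro c hc
    have h2 : (⟨c, hCH hc⟩ : H) ∈ (P' : Subgroup H) := mem_subgroupOf.2 hc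
    have h3 : (⟨m * b, hgH⟩ : H) * ⟨c, hCH hc⟩ * (⟨m * b, hgH⟩ : H)⁻¹ ∈ (P : Subgroup H) := by
      rw [← hg]
      change _ ∈ (MulAut.conj (⟨m * b, hgH⟩ : H)) • (P' : Subgroup H)
      rw [Subgroup.mem_pointwise_smul_iff_inv_smul_mem]
      have h5 : (MulAut.conj (⟨m * b, hgH⟩ : H))⁻¹ • ((⟨m * b, hgH⟩ : H) * ⟨c, hCH hc⟩ * (⟨m * b, hgH⟩ : H)⁻¹) =
          ⟨c, hCH hc⟩ := by
        rw [← map_inv, MulAut.smul_def, MulAut.conj_apply]; group
      rw [h5]
      exact h2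
    exact mem_subgroupOf.1 h3
  refine ⟨b⁻¹ * m * b, ?_, fun a ha => ?_⟩
  · have := (inferInstance : M.Normal).conj_mem m hm b⁻¹
    rwa [inv_inv] at this
  · have h2 := h1 (x * a * x⁻¹) ⟨a, ha, rfl⟩
    have h3 := mul_mem (mul_mem (inv_mem hb) h2) hb
    have h4 : b⁻¹ * (m * b * (x * a * x⁻¹) * (m * b)⁻¹) * b = b⁻¹ * m * b * x * a * (b⁻¹ * m * b * x)⁻¹ := by group
    rwa [h4] at h3

namespace Sit

variable {G : Type*} [Group G] {th : V → G} {O K0 : Subgroup G}

theorem eq_one_of_mem [Finite G] (h : Sit th O K0) {M : Subgroup G} (hM : Odd (Nat.card M)) {v : V} (hv : th v ∈ M) :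
    v = 0 := by
  have h1 : orderOf (⟨th v, hv⟩ : M) ∣ 2 := orderOf_dvd_of_pow_eq_one (Subtype.ext (by
    change th v ^ 2 = 1
    rw [pow_two, h.sq]))
  have h2 : orderOf (⟨th v, hv⟩ : M) ∣ Nat.card M := orderOf_dvd_natCard _
  have h3 : orderOf (⟨th v, hv⟩ : M) = 1 :=
    Nat.eq_one_of_dvd_coprimes (Nat.coprime_two_left.2 hM) h1 h2
  exact (h.eq_one_iff v).1 (congrArg Subtype.val (orderOf_eq_one_iff.1 h3))

/-- **passing to the quotient by a normal subgroup of odd order** -/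
theorem quot [Finite G] (h : Sit th O K0) (M : Subgroup G) [hMn : M.Normal] (hM : Odd (Nat.card M)) :
    Sit (fun v => (QuotientGroup.mk' M) (th v)) (O.map (QuotientGroup.mk' M)) (K0.map (QuotientGroup.mk' M)) := by
  have hk : ∀ x : G, (QuotientGroup.mk' M) x = 1 ↔ x ∈ M := fun x => by
    rw [← MonoidHom.mem_ker, QuotientGroup.ker_mk']
  have hth : ∀ v, (QuotientGroup.mk' M) (th v) = 1 ↔ v = 0 := fun v => by
    rw [hk]
    refine ⟨fun hv => h.eq_one_of_mem hM hv, ?_⟩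
    rintro rfl
    rw [h.zero]; exact M.one_mem
  have hinj : ∀ u v, (QuotientGroup.mk' M) (th u) = (QuotientGroup.mk' M) (th v) → u = v := by
    intro u v huv
    have h1 : (QuotientGroup.mk' M) (th (u + v)) = 1 := by
      rw [h.add, map_mul, huv, ← map_mul, h.sq, map_one]
    exact (add_eq_zero_iff _ _).1 ((hth _).1 h1)
  -- lifting normalising elements
  have hlift : ∀ x : G, (∀ v, ∃ u, (QuotientGroup.mk' M) x * (QuotientGroup.mk' M) (th v) *
      ((QuotientGroup.mk' M) x)⁻¹ = (QuotientGroup.mk' M) (th u)) → ∃ m ∈ M, ∀ v, ∃ u,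
        (m * x) * th v * (m * x)⁻¹ = th u := by
    intro x hx
    obtain ⟨m, hm, h1⟩ := frattini M h.A hM h.isPGroup_A x (by
      rintro _ ⟨v, rfl⟩
      obtain ⟨u, hu⟩ := hx v
      refine ⟨x * th v * x⁻¹ * (th u)⁻¹, ?_, th u, h.th_mem u, by group⟩
      rw [← hk, map_mul, map_mul, map_mul, map_inv, map_inv, hu, mul_inv_cancel])
    refine ⟨m, hm, fun v => ?_⟩
    obtain ⟨u, hu⟩ := h1 _ (h.th_mem v)
    exact ⟨u, hu.symm⟩
  have hmk : ∀ m ∈ M, ∀ x, (QuotientGroup.mk' M) (m * x) = (QuotientGroup.mk' M) x := fun m hm x => by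
    rw [map_mul, (hk m).2 hm, one_mul]
  have hcomm : ∀ x : G, (∀ v, ∃ u, x * th v * x⁻¹ = th u) →
      (∀ v, (QuotientGroup.mk' M) x * (QuotientGroup.mk' M) (th v) = (QuotientGroup.mk' M) (th v) *
        (QuotientGroup.mk' M) x) → ∀ v, x * th v = th v * x := by
    intro x hx hc v
    obtain ⟨u, hu⟩ := hx v
    have h1 : (QuotientGroup.mk' M) (th u) = (QuotientGroup.mk' M) (th v) := by
      rw [← hu, map_mul, map_mul, map_inv, hc v, mul_inv_cancel_right]
    rw [hinj _ _ h1] at hu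
    rwa [mul_inv_eq_iff_eq_mul] at hu
  exact
    { add := fun u v => by rw [h.add, map_mul]
      inj := hinj
      odd := h.odd.of_dvd_nat (Subgroup.card_map_dvd O (QuotientGroup.mk' M))
      oc := by
        rintro _ ⟨x, hx, rfl⟩ v
        rw [← map_mul, h.oc x hx v, map_mul]
      oN := by
        rintro _ ⟨x, hx, rfl⟩ n hn
        obtain ⟨y, rfl⟩ := QuotientGroup.mk'_surjective M n
        obtain ⟨m, hm, h1⟩ := hlift y hn
        refine ⟨(m * y) * x * (m * y)⁻¹, h.oN x hx _ h1, ?_⟩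
        rw [map_mul, map_mul, map_inv, hmk m hm]
      cent := by
        intro x hx
        obtain ⟨y, rfl⟩ := QuotientGroup.mk'_surjective M x
        obtain ⟨m, hm, h1⟩ := hlift y fun v => ⟨v, by rw [hx v, mul_inv_cancel_right]⟩
        obtain ⟨o, ho, v, h2⟩ := h.cent (m * y) (hcomm _ h1 fun v => by rw [hmk m hm]; exact hx v)
        refine ⟨_, ⟨o, ho, rfl⟩, v, ?_⟩
        rw [← hmk m hm, h2, map_mul]
      k0 := by
        rintro _ ⟨k, hk', rfl⟩ v
        obtain ⟨u, hu⟩ := h.k0 k hk' v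
        exact ⟨u, by rw [← hu, map_mul, map_mul, map_inv]⟩
      le := map_mono h.le
      k0c := by
        rintro _ ⟨k, hk', rfl⟩ hc
        exact ⟨k, h.k0c k hk' (hcomm k (h.k0 k hk') hc), rfl⟩
      full := by
        intro g
        obtain ⟨k, hk', h1⟩ := h.full g
        exact ⟨_, ⟨k, hk', rfl⟩, fun v => by rw [← h1 v, map_mul, map_mul, map_inv]⟩ }

end Sit

end Cfsg.Agent.H336.LinFour
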