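import Cfsg.Agent.H336.LinFour.ClassRow
import Cfsg.Agent.H336.LinFour.Main
import Cfsg.Agent.H336.LinFour.FromE
import Cfsg.Agent.H336.LinFour.Quot
import Cfsg.Agent.H336.LinFour.Normal
import Cfsg.Prelude.Def_Classification2

/-!
# S1918 from the rows
-/

set_option autoImplicit false

namespace Cfsg.Agent.H336.LinFour.Frame

open Subgroup Cfsg Cfsg.Agent.H336.LinFour

universe u

/-- the list for the simple group -/
def Three (K : Type u) [Group K] : Prop :=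
  (∃ n : ℕ, 16 ≤ n ∧ n ≤ 19 ∧ Nonempty (K ≃* alternatingGroup (Fin n))) ∨
    Nonempty (K ≃* GL (Fin 5) (ZMod 2)) ∨ Spor.IsoM24 K

/-- the list for the group -/
def Five (G : Type u) [Group G] : Prop :=
  Nonempty (G ≃* GL (Fin 5) (ZMod 2)) ∨
      Nonempty (G ≃* MulAut (GL (Fin 5) (ZMod 2))) ∨
      Cfsg.Spor.IsoM24 G ∨
      (∃ n : ℕ, 16 ≤ n ∧ n ≤ 19 ∧ Nonempty (G ≃* alternatingGroup (Fin n))) ∨
      (∃ n : ℕ, (n = 16 ∨ n = 17) ∧ Nonempty (G ≃* Equiv.Perm (Fin n)))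

/-- the rows -/
structure Rows : Prop where
  alt : ∀ {n : ℕ} {th : V → alternatingGroup (Fin n)} {O K0 : Subgroup (alternatingGroup (Fin n))},
    Sit th O K0 → 16 ≤ n ∧ n ≤ 19
  char2 : ∀ {K : Type u} [Group K] [Finite K] [IsSimpleGroup K], (IsLieTypeChar 2 K ∨ Lie.IsoTits K) →
    ∀ {th : V → K} {O K0 : Subgroup K}, Sit th O K0 → Nonempty (K ≃* GL (Fin 5) (ZMod 2))
  exc : ∀ {K : Type u} [Group K] [Finite K] [IsSimpleGroup K], IsExceptionalLieType K → ¬ (IsLieTypeChar 2 K ∨ Lie.IsoTits K) →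
    ∀ {th : V → K} {O K0 : Subgroup K}, Sit th O K0 → False
  spor : ∀ {K : Type u} [Group K] [Finite K] [IsSimpleGroup K], IsSporadicGroup K →
    ∀ {th : V → K} {O K0 : Subgroup K}, Sit th O K0 → Spor.IsoM24 K
  ende : ∀ {G : Type u} [Group G] [Finite G] (K : Subgroup G), K.Normal → centralizer (K : Set G) = ⊥ → 
    ∀ {th : V → G} {O K0 : Subgroup G}, Sit th O K0 → (∀ v, th v ∈ K) → Three K → Five G

theorem three (R : Rows.{u}) {K : Type u} [Group K] [Finite K] [hs : IsSimpleGroup K] (hna : ¬ IsMulCommutative K)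
    (hKn : IsKnownSimple' K) {th : V → K} {O K0 : Subgroup K} (h : Sit th O K0) : Three K := by
  rcases hKn with hK | hK | hK | hK | hK | hK | hK | hK | hK | hK
  · -- prime order
    exfalso
    apply hna
    have : Fact (Nat.card K).Prime := ⟨hK⟩
    have hc : IsCyclic K := isCyclic_of_prime_card rfl
    exact ⟨⟨fun a b => hc.commGroup.mul_comm a b⟩⟩
  · obtain ⟨n, -, ⟨e⟩⟩ := hK
    obtain ⟨h1, h2⟩ := R.alt (h.equiv e)
    exact Or.inl ⟨n, h1, h2, ⟨e⟩⟩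
  · exact Or.inr (Or.inl (R.char2 (Or.inl (ClassRow.charTwo_of_classical h (Or.inl hK))) h))
  · exact Or.inr (Or.inl (R.char2 (Or.inl (ClassRow.charTwo_of_classical h (Or.inr (Or.inl hK)))) h))
  · exact Or.inr (Or.inl (R.char2 (Or.inl (ClassRow.charTwo_of_classical h (Or.inr (Or.inr (Or.inl hK))))) h))
  · exact Or.inr (Or.inl (R.char2 (Or.inl (ClassRow.charTwo_of_classical h (Or.inr (Or.inr (Or.inr (Or.inl hK)))))) h))
  · exact Or.inr (Or.inl (R.char2 (Or.inl (ClassRow.charTwo_of_classical h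
      (Or.inr (Or.inr (Or.inr (Or.inr (Or.inl hK))))))) h))
  · exact Or.inr (Or.inl (R.char2 (Or.inl (ClassRow.charTwo_of_classical h
      (Or.inr (Or.inr (Or.inr (Or.inr (Or.inr hK))))))) h))
  · by_cases h2 : IsLieTypeChar 2 K ∨ Lie.IsoTits K
    · exact Or.inr (Or.inl (R.char2 h2 h))
    · exact (R.exc hK h2 h).elim
  · exact Or.inr (Or.inr (R.spor hK h))

theorem main (R : Rows.{u}) (hcl : ∀ (K : Type u) [Group K] [Finite K] [IsSimpleGroup K], IsKnownSimple' K)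
    {G : Type u} [Group G] [Finite G] (hO : oddCore G = ⊥) {th : V → G} {O K0 : Subgroup G} (h : Sit th O K0) :
    (∃ (E' K' : Subgroup G), E'.Normal ∧ IsElementaryAbelian 2 E' ∧ Nat.card E' = 16 ∧
      centralizer (E' : Set G) = E' ∧ E' ⊓ K' = ⊥ ∧ E' ⊔ K' = ⊤ ∧ Nonempty (K' ≃* GL (Fin 4) (ZMod 2))) ∨ Five G := by
  rcases h.reduce hO with h1 | ⟨K, hKn, hKs, hKc, hC, hK, hS⟩
  · exact Or.inl (h.normal_case hO h1)
  · exact Or.inr (R.ende K hKn hC h hK (three R hKc (hcl K) hS))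

/-- the statement -/
theorem final (R : Rows.{u}) (hcl : ∀ (K : Type u) [Group K] [Finite K] [IsSimpleGroup K], IsKnownSimple' K)
    {G : Type u} [Group G] [Finite G] (A : Subgroup G) (hA : Cfsg.IsElementaryAbelian 2 A) (hA16 : Nat.card A = 16)
    (hN : ∃ (E K : Subgroup (↥(Subgroup.normalizer (A : Set G)) ⧸ Cfsg.oddCore ↥(Subgroup.normalizer (A : Set G)))),
      E.Normal ∧ Cfsg.IsElementaryAbelian 2 E ∧ Nat.card E = 16 ∧
      Subgroup.centralizer (E : Set (↥(Subgroup.normalizer (A : Set G)) ⧸ Cfsg.oddCore ↥(Subgroup.normalizer (A : Set G)))) = E ∧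
      E ⊓ K = ⊥ ∧ E ⊔ K = ⊤ ∧ Nonempty (K ≃* GL (Fin 4) (ZMod 2))) :
    (∃ (E' K' : Subgroup (G ⧸ Cfsg.oddCore G)), E'.Normal ∧ Cfsg.IsElementaryAbelian 2 E' ∧ Nat.card E' = 16 ∧
        Subgroup.centralizer (E' : Set (G ⧸ Cfsg.oddCore G)) = E' ∧ E' ⊓ K' = ⊥ ∧ E' ⊔ K' = ⊤ ∧
        Nonempty (K' ≃* GL (Fin 4) (ZMod 2))) ∨ Five (G ⧸ Cfsg.oddCore G) := by
  obtain ⟨th, O, K0, h, -⟩ := exists_sit A hA hA16 hN
  have h1 : Odd (Nat.card (Cfsg.oddCore G)) :=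
    Nat.coprime_two_right.1 (Lib.Cores.pPrimeCore_coprime (G := G) 2)
  exact main R hcl (Lib.Cores.pPrimeCore_quotient_pPrimeCore 2) (h.quot (Cfsg.oddCore G) h1)

end Cfsg.Agent.H336.LinFour.Frame
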