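import Cfsg.Agent.H336.LinFour.Def
import Cfsg.Agent.S0249
import Mathlib.LinearAlgebra.Matrix.GeneralLinearGroup.Card

/-!
# `GL_n(2) = PSL_n(2)`; the action of `GL_4(2)` on `V`
-/

set_option autoImplicit false

namespace Cfsg.Agent.H336.LinFour

open Matrix

theorem unit_two (x : (ZMod 2)ˣ) : x = 1 := by
  apply Units.ext
  rcases z2 (x : ZMod 2) with h | h
  · exact absurd h x.ne_zero
  · rw [h]; rfl

/-- `GL_n(2) = PSL_n(2)` -/
theorem equiv_psl (n : ℕ) : Nonempty (GL (Fin n) (ZMod 2) ≃* Matrix.ProjectiveSpecialLinearGroup (Fin n) (ZMod 2)) := by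
  have h1 : Function.Bijective (Matrix.SpecialLinearGroup.toGL : SpecialLinearGroup (Fin n) (ZMod 2) →* GL (Fin n) (ZMod 2)) := by
    constructor
    · intro a b hab
      apply Subtype.ext
      exact congrArg (fun g : GL (Fin n) (ZMod 2) => (g : Matrix (Fin n) (Fin n) (ZMod 2))) hab
    · intro g
      have hd : (g : Matrix (Fin n) (Fin n) (ZMod 2)).det = 1 := by
        have := congrArg Units.val (unit_two (Matrix.GeneralLinearGroup.det g))
        exact this
      exact ⟨⟨g, hd⟩, Units.ext rfl⟩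
  have h2 : Subgroup.center (SpecialLinearGroup (Fin n) (ZMod 2)) = ⊥ := by
    rw [Subgroup.eq_bot_iff_forall]
    intro a ha
    rw [Matrix.SpecialLinearGroup.mem_center_iff] at ha
    obtain ⟨r, hr, hr'⟩ := ha
    apply Subtype.ext
    rw [← hr']
    rcases z2 r with h | h
    · rw [h, Fintype.card_fin] at hr
      rcases Nat.eq_zero_or_pos n with h0 | h0
      · subst h0
        exact Subsingleton.elim _ _
      · rw [zero_pow h0.ne'] at hr
        exact absurd hr (by decide)
    · rw [h, map_one]; rfl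
  exact ⟨(MulEquiv.ofBijective _ h1).symm.trans
    ((QuotientGroup.quotientBot (G := SpecialLinearGroup (Fin n) (ZMod 2))).symm.trans
      (QuotientGroup.quotientMulEquivOfEq h2.symm))⟩

theorem isSimple_GL (n : ℕ) (hn : 3 ≤ n) : IsSimpleGroup (GL (Fin n) (ZMod 2)) := by
  obtain ⟨e⟩ := equiv_psl n
  have := Cfsg.Agent.S0249.result (F := ZMod 2) n hn
  exact e.isSimpleGroup

/-- the group `GL_4(2)` -/
abbrev S := GL (Fin 4) (ZMod 2)

theorem isSimple_S : IsSimpleGroup S := isSimple_GL 4 (by norm_num)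

theorem card_S : Nat.card S = 20160 := by
  rw [Matrix.card_GL_field]
  simp [Fin.prod_univ_four]

theorem card_GL5 : Nat.card (GL (Fin 5) (ZMod 2)) = 9999360 := by
  rw [Matrix.card_GL_field]
  simp [Fin.prod_univ_five]

/-- the action -/
def act (s : S) (v : V) : V := (s : Matrix (Fin 4) (Fin 4) (ZMod 2)) *ᵥ v

theorem act_mul (s t : S) (v : V) : act (s * t) v = act s (act t v) := by
  change ((s * t : S) : Matrix (Fin 4) (Fin 4) (ZMod 2)) *ᵥ v = _
  rw [Units.val_mul, ← Matrix.mulVec_mulVec]; rfl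

theorem act_one (v : V) : act 1 v = v := by
  change ((1 : S) : Matrix (Fin 4) (Fin 4) (ZMod 2)) *ᵥ v = _
  rw [Units.val_one, Matrix.one_mulVec]

theorem act_add (s : S) (u v : V) : act s (u + v) = act s u + act s v := Matrix.mulVec_add _ _ _

theorem act_ext {s t : S} (h : ∀ v, act s v = act t v) : s = t := by
  apply Units.ext
  have : Matrix.toLin' (s : Matrix (Fin 4) (Fin 4) (ZMod 2)) = Matrix.toLin' (t : Matrix (Fin 4) (Fin 4) (ZMod 2)) := by
    refine LinearMap.ext fun v => ?_
    rw [Matrix.toLin'_apply, Matrix.toLin'_apply]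
    exact h v
  exact Matrix.toLin'.injective this

/-- the action of an element of `GL_4(2)` -/
def actE (s : S) : V ≃+ V where
  toFun v := act s v
  invFun v := act s⁻¹ v
  left_inv v := by
    change act s⁻¹ (act s v) = v
    rw [← act_mul, inv_mul_cancel, act_one]
  right_inv v := by
    change act s (act s⁻¹ v) = v
    rw [← act_mul, mul_inv_cancel, act_one]
  map_add' u v := act_add s u v

theorem actE_apply (s : S) (v : V) : actE s v = act s v := rfl

theorem exists_act (g : V ≃+ V) : ∃ s : S, ∀ v, act s v = g v := by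
  let f : V →ₗ[ZMod 2] V := (g : V →+ V).toZModLinearMap 2
  let f' : V →ₗ[ZMod 2] V := (g.symm : V →+ V).toZModLinearMap 2
  have h1 : f ∘ₗ f' = LinearMap.id := LinearMap.ext fun v => g.apply_symm_apply v
  have h2 : f' ∘ₗ f = LinearMap.id := LinearMap.ext fun v => g.symm_apply_apply v
  refine ⟨⟨LinearMap.toMatrix' f, LinearMap.toMatrix' f', ?_, ?_⟩, fun v => ?_⟩
  · rw [← LinearMap.toMatrix'_comp, h1, LinearMap.toMatrix'_id]
  · rw [← LinearMap.toMatrix'_comp, h2, LinearMap.toMatrix'_id]
  · change LinearMap.toMatrix' f *ᵥ v = g v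
    rw [← Matrix.toLin'_apply, Matrix.toLin'_toMatrix']; rfl

end Cfsg.Agent.H336.LinFour
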