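import Cfsg.Agent.H336.LinFour.Basic

/-!
# Lifting `Sit` along a surjection with central kernel of odd order
-/

set_option autoImplicit false

namespace Cfsg.Agent.H336.LinFour

open Subgroup

section

variable {G K : Type*} [Group G] [Group K] (π : G →* K)

/-- uniqueness of involutory lifts -/
theorem lift_unique (hc : π.ker ≤ center G) (hodd : Odd (Nat.card π.ker)) {a b : G} (hab : π a = π b)
    (ha : a * a = 1) (hb : b * b = 1) : a = b := by
  set z := a * b⁻¹ with hz
  have hzk : z ∈ π.ker := by rw [MonoidHom.mem_ker, hz, map_mul, map_inv, hab, mul_inv_cancel]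
  have hzc := mem_center_iff.1 (hc hzk)
  have haz : a = z * b := by rw [hz]; group
  have hzz : z * z = 1 := by
    have h1 : a * a = z * z * (b * b) := by
      rw [haz]
      calc z * b * (z * b) = z * (b * z) * b := by group
        _ = z * (z * b) * b := by rw [hzc b]
        _ = _ := by group
    rw [ha, hb, mul_one] at h1
    exact h1.symm
  have h1 : orderOf (⟨z, hzk⟩ : π.ker) ∣ 2 := orderOf_dvd_of_pow_eq_one (Subtype.ext (by
    change z ^ 2 = 1
    rw [pow_two, hzz]))
  have h2 : orderOf (⟨z, hzk⟩ : π.ker) ∣ Nat.card π.ker := orderOf_dvd_natCard _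
  have h3 : orderOf (⟨z, hzk⟩ : π.ker) = 1 := Nat.eq_one_of_dvd_coprimes (Nat.coprime_two_left.2 hodd) h1 h2
  have h4 : z = 1 := congrArg Subtype.val (orderOf_eq_one_iff.1 h3)
  rw [haz, h4, one_mul]

/-- existence of involutory lifts -/
theorem exists_lift (hs : Function.Surjective π) (hodd : Odd (Nat.card π.ker)) {x : K}
    (hx : x * x = 1) : ∃ a : G, π a = x ∧ a * a = 1 := by
  obtain ⟨g, rfl⟩ := hs x
  have h1 : g * g ∈ π.ker := by rw [MonoidHom.mem_ker, map_mul, hx]
  obtain ⟨n, hn⟩ := id hodd
  have h2 : (g * g) ^ Nat.card π.ker = 1 := by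
    have := pow_card_eq_one' (x := (⟨g * g, h1⟩ : π.ker))
    exact congrArg Subtype.val this
  refine ⟨g ^ Nat.card π.ker, ?_, ?_⟩
  · rw [map_pow, hn, pow_succ, pow_mul, pow_two, hx, one_pow, one_mul]
  · rw [← h2, ← pow_add, ← pow_two g, ← pow_mul]
    congr 1
    ring

/-- **lifting along a surjection with central kernel of odd order** -/
theorem Sit.lift [Finite G] {th : V → K} {O K0 : Subgroup K} (h : Sit th O K0) (hs : Function.Surjective π)
    (hc : π.ker ≤ center G) (hodd : Odd (Nat.card π.ker)) :
    ∃ th' : V → G, (∀ v, π (th' v) = th v) ∧ Sit th' (O.comap π) (K0.comap π) := by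
  choose th' hth hsq using fun v => exists_lift π hs hodd (h.sq v)
  have huniq : ∀ (a : G) (v : V), π a = th v → a * a = 1 → a = th' v := fun a v h1 h2 =>
    lift_unique π hc hodd (h1.trans (hth v).symm) h2 (hsq v)
  -- conjugates
  have hconj : ∀ (k : G) (u v : V), π k * th v * (π k)⁻¹ = th u → k * th' v * k⁻¹ = th' u := by
    intro k u v hk
    refine huniq _ _ ?_ ?_
    · rw [map_mul, map_mul, map_inv, hth, hk]
    · calc k * th' v * k⁻¹ * (k * th' v * k⁻¹) = k * (th' v * th' v) * k⁻¹ := by group
        _ = 1 := by rw [hsq]; group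
  have hdown : ∀ (k : G) (u v : V), k * th' v * k⁻¹ = th' u → π k * th v * (π k)⁻¹ = th u := by
    intro k u v hk
    rw [← hth, ← hth, ← hk, map_mul, map_mul, map_inv]
  have hcomm : ∀ (k : G) (v : V), π k * th v = th v * π k → k * th' v = th' v * k := by
    intro k v hk
    have := hconj k v v (by rw [hk, mul_inv_cancel_right])
    exact mul_inv_eq_iff_eq_mul.1 this
  have hcomm' : ∀ (k : G) (v : V), k * th' v = th' v * k → π k * th v = th v * π k := by
    intro k v hk
    rw [← hth, ← map_mul, hk, map_mul]
  refine ⟨th', hth, ?_⟩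
  exact
    { add := by
        intro u v
        have h1 : th' u * th' v = th' v * th' u := hcomm _ _ (by rw [hth, h.comm])
        refine (huniq _ _ ?_ ?_).symm
        · rw [map_mul, hth, hth, h.add]
        · calc th' u * th' v * (th' u * th' v) = th' u * (th' v * th' u) * th' v := by group
            _ = (th' u * th' u) * (th' v * th' v) := by rw [← h1]; group
            _ = 1 := by rw [hsq, hsq, one_mul]
      inj := by
        intro u v huv
        apply h.inj
        rw [← hth, ← hth, huv]
      odd := by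
        by_contra hn
        rw [Nat.not_odd_iff_even] at hn
        have : Fact (Nat.Prime 2) := ⟨Nat.prime_two⟩
        obtain ⟨⟨x, hx⟩, hx2⟩ := exists_prime_orderOf_dvd_card' (G := ↥(O.comap π)) 2 (even_iff_two_dvd.mp hn)
        rw [Subgroup.orderOf_mk] at hx2
        have hxx : x * x = 1 := by rw [← pow_two, ← hx2, pow_orderOf_eq_one]
        have h1 : orderOf (⟨π x, hx⟩ : O) ∣ 2 := orderOf_dvd_of_pow_eq_one (Subtype.ext (by
          change π x ^ 2 = 1
          rw [← map_pow, pow_two, hxx, map_one]))
        have h2 : orderOf (⟨π x, hx⟩ : O) ∣ Nat.card O := orderOf_dvd_natCard _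
        have h3 : orderOf (⟨π x, hx⟩ : O) = 1 := Nat.eq_one_of_dvd_coprimes (Nat.coprime_two_left.2 h.odd) h1 h2
        have h4 : π x = 1 := congrArg Subtype.val (orderOf_eq_one_iff.1 h3)
        have h5 : x = 1 := lift_unique π hc hodd (by rw [h4, map_one]) hxx (one_mul 1)
        rw [h5, orderOf_one] at hx2
        exact absurd hx2 (by norm_num)
      oc := fun x hx v => hcomm _ _ (h.oc _ hx v)
      oN := by
        intro x hx n hn
        change π (n * x * n⁻¹) ∈ O
        rw [map_mul, map_mul, map_inv]
        exact h.oN _ hx _ fun v => (hn v).imp fun u hu => hdown _ _ _ hu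
      cent := by
        intro x hx
        obtain ⟨o, ho, v, hv⟩ := h.cent (π x) fun v => hcomm' _ _ (hx v)
        refine ⟨x * (th' v)⁻¹, ?_, v, by group⟩
        change π (x * (th' v)⁻¹) ∈ O
        rw [map_mul, map_inv, hth, hv, mul_inv_cancel_right]
        exact ho
      k0 := fun k hk v => (h.k0 _ hk v).imp fun u hu => hconj _ _ _ hu
      le := comap_mono h.le
      k0c := fun k hk hv => h.k0c _ hk fun v => hcomm' _ _ (hv v)
      full := by
        intro g
        obtain ⟨k, hk, hk'⟩ := h.full g
        obtain ⟨k, rfl⟩ := hs k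
        exact ⟨k, hk, fun v => hconj _ _ _ (hk' v)⟩ }

end

end Cfsg.Agent.H336.LinFour
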