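import Cfsg.Agent.H336.LinFour.Basic

/-!
# Weights of `A` in a ring
-/

set_option autoImplicit false

namespace Cfsg.Agent.H336.LinFour.Wt

open Cfsg.Agent.H336.LinFour Finset

variable (F : Type*) {R : Type*} [Field F] [Ring R] [Algebra F R]

/-- the sign -/
def sg (x : ZMod 2) : F := if x = 0 then 1 else -1

theorem sg_zero : sg F 0 = 1 := by simp [sg]

theorem sg_one : sg F 1 = -1 := by simp [sg]

theorem sg_add (x y : ZMod 2) : sg F (x + y) = sg F x * sg F y := by
  rcases z2 x with rfl | rfl <;> rcases z2 y with rfl | rfl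
  · simp [sg_zero]
  · simp [sg_zero]
  · simp [sg_zero]
  · rw [show (1 : ZMod 2) + 1 = 0 from by decide, sg_zero, sg_one]; ring

theorem sg_mul_self (x : ZMod 2) : sg F x * sg F x = 1 := by
  rw [← sg_add, z2_add_self, sg_zero]

theorem sg_inj (h2 : (2 : F) ≠ 0) {x y : ZMod 2} (h : sg F x = sg F y) : x = y := by
  have h3 : (1 : F) ≠ -1 := by
    intro h
    apply h2
    linear_combination h
  rcases z2 x with rfl | rfl <;> rcases z2 y with rfl | rfl
  · rfl
  · rw [sg_zero, sg_one] at h; exact absurd h h3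
  · rw [sg_zero, sg_one] at h; exact absurd h.symm h3
  · rfl

theorem sum_sg (h2 : (2 : F) ≠ 0) (u : V) : ∑ v : V, sg F (dt u v) = if u = 0 then 16 else 0 := by
  by_cases hu : u = 0
  · rw [if_pos hu, hu]
    have : ∀ v : V, sg F (dt 0 v) = 1 := fun v => by rw [dt_zero_left, sg_zero]
    rw [sum_congr rfl fun v _ => this v, sum_const, card_univ]
    have h4 : Fintype.card V = 16 := by simp [V]
    rw [h4]
    simp
  · rw [if_neg hu]
    obtain ⟨w, hw⟩ := exists_dt hu
    rw [dt_comm] at hw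
    have h1 : ∑ v : V, sg F (dt u v) = ∑ v : V, sg F (dt u (v + w)) :=
      (Equiv.sum_comp (Equiv.addRight w) (fun v => sg F (dt u v))).symm
    have h3 : ∑ v : V, sg F (dt u (v + w)) = -∑ v : V, sg F (dt u v) := by
      rw [← sum_neg_distrib]
      refine sum_congr rfl fun v _ => ?_
      rw [dt_add, hw, sg_add, sg_one]; ring
    rw [h3] at h1
    have h4 : (2 : F) * ∑ v : V, sg F (dt u v) = 0 := by linear_combination h1
    exact (mul_eq_zero.1 h4).resolve_left h2

/-- the idempotents -/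
noncomputable def P (Y : V → R) (u : V) : R := (16 : F)⁻¹ • ∑ v, sg F (dt u v) • Y v

variable {Y : V → R}

theorem h16 (h2 : (2 : F) ≠ 0) : (16 : F) ≠ 0 := by
  have : (16 : F) = 2 ^ 4 := by norm_num
  rw [this]
  exact pow_ne_zero _ h2

theorem P_mul_Y (hY : ∀ u v, Y (u + v) = Y u * Y v) (u w : V) : P F Y u * Y w = sg F (dt u w) • P F Y u := by
  unfold P
  rw [smul_mul_assoc, sum_mul, smul_comm (sg F (dt u w)) (16 : F)⁻¹]
  congr 1
  rw [smul_sum, ← Equiv.sum_comp (Equiv.addRight w)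
    (fun v => sg F (dt u w) • sg F (dt u v) • Y v)]
  refine sum_congr rfl fun v _ => ?_
  simp only [Equiv.coe_addRight]
  rw [dt_add, sg_add, hY, smul_smul, smul_mul_assoc]
  congr 1
  rw [mul_comm (sg F (dt u v)), ← mul_assoc, sg_mul_self, one_mul]

theorem Y_mul_P (hY : ∀ u v, Y (u + v) = Y u * Y v) (u w : V) : Y w * P F Y u = sg F (dt u w) • P F Y u := by
  unfold P
  rw [mul_smul_comm, mul_sum, smul_comm (sg F (dt u w)) (16 : F)⁻¹]
  congr 1
  rw [smul_sum, ← Equiv.sum_comp (Equiv.addRight w)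
    (fun v => sg F (dt u w) • sg F (dt u v) • Y v)]
  refine sum_congr rfl fun v _ => ?_
  simp only [Equiv.coe_addRight]
  rw [dt_add, sg_add, add_comm v w, hY, smul_smul, mul_smul_comm]
  congr 1
  rw [mul_comm (sg F (dt u v)), ← mul_assoc, sg_mul_self, one_mul]

theorem P_mul_P (h2 : (2 : F) ≠ 0) (hY : ∀ u v, Y (u + v) = Y u * Y v) (u u' : V) :
    P F Y u * P F Y u' = if u = u' then P F Y u else 0 := by
  have h1 : P F Y u * P F Y u' = (16 : F)⁻¹ • ∑ v, sg F (dt (u + u') v) • P F Y u := by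
    have e : P F Y u' = (16 : F)⁻¹ • ∑ v, sg F (dt u' v) • Y v := rfl
    rw [e, mul_smul_comm, mul_sum]
    congr 1
    refine sum_congr rfl fun v _ => ?_
    rw [mul_smul_comm, P_mul_Y F hY, smul_smul, dt_add_left, sg_add, mul_comm]
  rw [h1, ← sum_smul, sum_sg F h2, smul_smul]
  by_cases h : u = u'
  · rw [if_pos h, if_pos ((add_eq_zero_iff _ _).2 h), inv_mul_cancel₀ (h16 F h2), one_smul]
  · rw [if_neg h, if_neg (fun hh => h ((add_eq_zero_iff _ _).1 hh)), mul_zero, zero_smul]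

theorem sum_P (h2 : (2 : F) ≠ 0) (hY0 : Y 0 = 1) : ∑ u, P F Y u = 1 := by
  unfold P
  rw [← smul_sum, sum_comm]
  have h1 : ∀ v : V, ∑ u : V, sg F (dt u v) • Y v = if v = 0 then (16 : F) • (1 : R) else 0 := by
    intro v
    rw [← sum_smul]
    have : ∑ u : V, sg F (dt u v) = ∑ u : V, sg F (dt v u) := sum_congr rfl fun u _ => by rw [dt_comm]
    rw [this, sum_sg F h2]
    by_cases hv : v = 0
    · rw [if_pos hv, if_pos hv, hv, hY0]
    · rw [if_neg hv, if_neg hv, zero_smul]
  rw [sum_congr rfl fun v _ => h1 v, sum_ite_eq' univ (0 : V), if_pos (mem_univ _), smul_smul,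
    inv_mul_cancel₀ (h16 F h2), one_smul]

/-- the combinations of the idempotents -/
noncomputable def D (Y : V → R) (e : V → F) : R := ∑ u, e u • P F Y u

theorem D_mul (h2 : (2 : F) ≠ 0) (hY : ∀ u v, Y (u + v) = Y u * Y v) (e e' : V → F) :
    D F Y e * D F Y e' = D F Y (fun u => e u * e' u) := by
  unfold D
  rw [sum_mul]
  refine sum_congr rfl fun u _ => ?_
  rw [mul_sum, sum_eq_single u]
  · rw [smul_mul_smul_comm, P_mul_P F h2 hY, if_pos rfl]
  · intro v _ hv
    rw [smul_mul_smul_comm, P_mul_P F h2 hY, if_neg (Ne.symm hv), smul_zero]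
  · intro h; exact absurd (mem_univ _) h

theorem D_one (h2 : (2 : F) ≠ 0) (hY0 : Y 0 = 1) : D F Y (fun _ => 1) = 1 := by
  unfold D
  simp only [one_smul]
  exact sum_P F h2 hY0

theorem D_mul_P (h2 : (2 : F) ≠ 0) (hY : ∀ u v, Y (u + v) = Y u * Y v) (e : V → F) (u : V) :
    D F Y e * P F Y u = e u • P F Y u := by
  unfold D
  rw [sum_mul, sum_eq_single u]
  · rw [smul_mul_assoc, P_mul_P F h2 hY, if_pos rfl]
  · intro v _ hv
    rw [smul_mul_assoc, P_mul_P F h2 hY, if_neg hv, smul_zero]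
  · intro h; exact absurd (mem_univ _) h

theorem D_comm (hY : ∀ u v, Y (u + v) = Y u * Y v) (e : V → F) (v : V) : D F Y e * Y v = Y v * D F Y e := by
  unfold D
  rw [sum_mul, mul_sum]
  refine sum_congr rfl fun u _ => ?_
  rw [smul_mul_assoc, mul_smul_comm, P_mul_Y F hY, Y_mul_P F hY]

theorem D_scalar (h2 : (2 : F) ≠ 0) (hY : ∀ u v, Y (u + v) = Y u * Y v) {e : V → F} {c : F}
    (h : D F Y e = algebraMap F R c) {u : V} (hu : P F Y u ≠ 0) : e u = c := by
  have h1 := D_mul_P F h2 hY e u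
  rw [h, ← Algebra.smul_def, ← sub_eq_zero, ← sub_smul] at h1
  rcases smul_eq_zero.1 h1 with h3 | h3
  · exact (sub_eq_zero.1 h3).symm
  · exact absurd h3 hu

theorem P_inj (h2 : (2 : F) ≠ 0) (hY : ∀ u v, Y (u + v) = Y u * Y v) {u u' : V} (hu : P F Y u ≠ 0)
    (h : P F Y u = P F Y u') : u = u' := by
  by_contra hne
  have h1 := P_mul_P F h2 hY u u'
  rw [if_neg hne, ← h, P_mul_P F h2 hY, if_pos rfl] at h1
  exact hu h1

/-- duality -/
theorem exists_dual (f : V → ZMod 2) (hf : ∀ u v, f (u + v) = f u + f v) : ∃ k, ∀ v, f v = dt k v := by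
  let k : V := fun i => f (Pi.single i 1)
  refine ⟨k, ?_⟩
  let φ : V →+ ZMod 2 := AddMonoidHom.mk' f hf
  let ψ : V →+ ZMod 2 := AddMonoidHom.mk' (dt k) (dt_add k)
  have h : φ = ψ := by
    apply AddMonoidHom.functions_ext
    intro i x
    rcases z2 x with rfl | rfl
    · rw [Pi.single_zero, map_zero, map_zero]
    · change f (Pi.single i 1) = dt k (Pi.single i 1)
      rw [dt_sum, Finset.sum_eq_single i]
      · rw [Pi.single_eq_same, mul_one]
      · intro j _ hj
        rw [Pi.single_eq_of_ne hj, mul_zero]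
      · intro hi; exact absurd (Finset.mem_univ _) hi
  intro v
  exact DFunLike.congr_fun h v

end Cfsg.Agent.H336.LinFour.Wt
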