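import Cfsg.Agent.H336.LinFour.CentExt
import Cfsg.Agent.H336.LinFour.Weights

/-!
# A projective representation of `K` restricted to `A` lifts to a linear one
-/

set_option autoImplicit false
set_option linter.unusedSectionVars false

namespace Cfsg.Agent.H336.LinFour

open Subgroup

/-- `L` is a group with a faithful linear representation, `K` its quotient by the scalars -/
structure Lin (F : Type*) {R K L : Type*} [Field F] [Ring R] [Algebra F R] [Group K] [Group L]
    (π : L →* K) (ι : L →* R) : Prop where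
  surj : Function.Surjective π
  ker : ∀ g, π g = 1 ↔ ∃ c : F, ι g = algebraMap F R c
  inj : Function.Injective ι

namespace Lin

variable {F R K L : Type*} [Field F] [Ring R] [Algebra F R] [Nontrivial R] [Group K] [Group L]
  {π : L →* K} {ι : L →* R}

theorem ne_zero (g : L) : ι g ≠ 0 := by
  intro h
  have h1 : ι g * ι g⁻¹ = 1 := by rw [← map_mul, mul_inv_cancel, map_one]
  rw [h, zero_mul] at h1
  exact zero_ne_one h1

theorem central (H : Lin F π ι) (z : L) (hz : π z = 1) (g : L) : z * g = g * z := by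
  obtain ⟨c, hc⟩ := (H.ker z).1 hz
  apply H.inj
  rw [map_mul, map_mul, hc]
  exact Algebra.commutes c _

/-- proportional elements have the same image -/
theorem eq_of_smul (H : Lin F π ι) {g g' : L} {c : F} (h : ι g = c • ι g') : π g = π g' := by
  have h1 : ι (g * g'⁻¹) = algebraMap F R c := by
    rw [map_mul, h, smul_mul_assoc, ← map_mul, mul_inv_cancel, map_one, Algebra.algebraMap_eq_smul_one]
  have h2 := (H.ker _).2 ⟨c, h1⟩
  rw [map_mul, map_inv, mul_inv_eq_one] at h2
  exact h2

theorem exists_smul (H : Lin F π ι) {g g' : L} (h : π g = π g') : ∃ c : F, c ≠ 0 ∧ ι g = c • ι g' := by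
  obtain ⟨c, hc⟩ := (H.ker (g * g'⁻¹)).1 (by rw [map_mul, map_inv, h, mul_inv_cancel])
  refine ⟨c, ?_, ?_⟩
  · rintro rfl
    rw [map_zero] at hc
    exact ne_zero (ι := ι) _ hc
  · have : ι g = ι (g * g'⁻¹) * ι g' := by rw [← map_mul, inv_mul_cancel_right]
    rw [this, hc, Algebra.smul_def]

/-- **the linear lift of `A`** -/
theorem exists_Y [Finite K] (H : Lin F π ι) {th : V → K} {O K0 : Subgroup K} (h : Sit th O K0) :
    ∃ Y : V → R, (∀ u v, Y (u + v) = Y u * Y v) ∧ Y 0 = 1 ∧
      ∀ v, ∃ g : L, ∃ c : F, c ≠ 0 ∧ π g = th v ∧ Y v = c • ι g := by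
  classical
  have hcom := fun {g g' : L} {u v : V} => h.lifts_comm π H.surj H.central (g := g) (g' := g') (u := u) (v := v)
  choose x hx using fun v => H.surj (th v)
  -- squares of lifts are scalars
  have hsq : ∀ (g : L) (v : V), π g = th v → ∃ m : F, m ≠ 0 ∧ ι g * ι g = algebraMap F R m := by
    intro g v hg
    obtain ⟨c, hc⟩ := (H.ker (g * g)).1 (by rw [map_mul, hg, h.sq])
    refine ⟨c, ?_, by rw [← map_mul, hc]⟩
    rintro rfl
    rw [map_zero] at hc
    exact ne_zero (ι := ι) _ hc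
  choose m hm0 hm using fun v => hsq (x v) v (hx v)
  have hinj : ∀ a b : F, algebraMap F R a = algebraMap F R b → a = b := fun a b hab =>
    (algebraMap F R).injective hab
  -- conjugate elements
  have hconj : ∀ v w, v ≠ 0 → w ≠ 0 → ∃ d : F, m v = d * d * m w := by
    intro v w hv hw
    obtain ⟨k, -, hk⟩ := h.exists_conj hv hw
    obtain ⟨T, rfl⟩ := H.surj k
    have h1 : π (T * x v * T⁻¹) = π (x w) := by rw [map_mul, map_mul, map_inv, hx, hk, hx]
    obtain ⟨c, -, hc⟩ := H.exists_smul h1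
    refine ⟨c, hinj _ _ ?_⟩
    have h2 : ι (T * x v * T⁻¹) * ι (T * x v * T⁻¹) = algebraMap F R (m v) := by
      rw [← map_mul]
      have : T * x v * T⁻¹ * (T * x v * T⁻¹) = T * (x v * x v) * T⁻¹ := by group
      rw [this, map_mul, map_mul, map_mul, hm, ← Algebra.commutes, mul_assoc, ← map_mul, mul_inv_cancel, map_one,
        mul_one]
    rw [← h2, hc, smul_mul_smul_comm, hm, map_mul, Algebra.smul_def]
  have hprod : ∀ u v, ∃ d : F, d ≠ 0 ∧ m u * m v = d * d * m (u + v) := by
    intro u v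
    have h1 : π (x u * x v) = π (x (u + v)) := by rw [map_mul, hx, hx, hx, h.add]
    obtain ⟨c, hc0, hc⟩ := H.exists_smul h1
    refine ⟨c, hc0, hinj _ _ ?_⟩
    have h2 : ι (x u * x v) * ι (x u * x v) = algebraMap F R (m u * m v) := by
      rw [← map_mul]
      have : x u * x v * (x u * x v) = (x u * x u) * (x v * x v) := by
        calc x u * x v * (x u * x v) = x u * (x v * x u) * x v := by group
          _ = x u * (x u * x v) * x v := by rw [hcom (hx v) (hx u)]
          _ = _ := by group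
      rw [this, map_mul, map_mul, map_mul, hm, hm, map_mul]
    rw [← h2, hc, smul_mul_smul_comm, hm, map_mul, Algebra.smul_def]
  have hissq : ∀ v, ∃ s : F, s ≠ 0 ∧ s * s * m v = 1 := by
    have key : ∀ v, v ≠ 0 → ∃ s : F, m v = s * s := by
      intro v hv
      obtain ⟨c, hc0, hcv, -, -⟩ := exists_third v v
      have hvc : v + c ≠ 0 := fun hh => hcv ((add_eq_zero_iff _ _).1 hh).symm
      obtain ⟨d1, hd1, e1⟩ := hprod v c
      obtain ⟨d2, e2⟩ := hconj c v hc0 hv
      obtain ⟨d3, e3⟩ := hconj v (v + c) hv hvc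
      refine ⟨d3 * (d2 * m v / d1), ?_⟩
      have e4 : m (v + c) = (d2 * m v / d1) * (d2 * m v / d1) := by
        rw [e2] at e1
        field_simp
        linear_combination -e1
      calc m v = d3 * d3 * m (v + c) := e3
        _ = d3 * d3 * ((d2 * m v / d1) * (d2 * m v / d1)) := by rw [← e4]
        _ = _ := by ring
    intro v
    by_cases hv : v = 0
    · -- `x 0` is a scalar
      obtain ⟨c, hc⟩ := (H.ker (x v)).1 (by rw [hx, hv, h.zero])
      have hc0 : c ≠ 0 := by
        rintro rfl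
        rw [map_zero] at hc
        exact ne_zero (ι := ι) _ hc
      have e1 : m v = c * c := hinj _ _ (by rw [← hm, hc, map_mul])
      exact ⟨c⁻¹, inv_ne_zero hc0, by rw [e1]; field_simp⟩
    · obtain ⟨s, hs⟩ := key v hv
      have hs0 : s ≠ 0 := by
        rintro rfl
        exact hm0 v (by rw [hs]; ring)
      exact ⟨s⁻¹, inv_ne_zero hs0, by rw [hs]; field_simp⟩
  choose s hs0 hs using hissq
  -- the group of all lifts of square one
  let M : Subgroup Rˣ :=
    { carrier := {r | r * r = 1 ∧ ∃ (g : L) (v : V) (c : F), c ≠ 0 ∧ π g = th v ∧ (r : R) = c • ι g}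
      one_mem' := ⟨one_mul _, 1, 0, 1, one_ne_zero, by rw [map_one, h.zero], by simp⟩
      mul_mem' := by
        rintro r r' ⟨hr, g, v, c, hc0, hg, hc⟩ ⟨hr', g', v', c', hc0', hg', hc'⟩
        have e1 : r * r' = r' * r := by
          apply Units.ext
          rw [Units.val_mul, Units.val_mul, hc, hc', smul_mul_smul_comm, smul_mul_smul_comm, ← map_mul, ← map_mul,
            hcom hg hg', mul_comm c c']
        refine ⟨?_, g * g', v + v', c * c', mul_ne_zero hc0 hc0', by rw [map_mul, hg, hg', h.add], ?_⟩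
        · calc r * r' * (r * r') = r * (r' * r) * r' := by group
            _ = r * (r * r') * r' := by rw [e1]
            _ = (r * r) * (r' * r') := by group
            _ = 1 := by rw [hr, hr', one_mul]
        · rw [Units.val_mul, hc, hc', smul_mul_smul_comm, map_mul]
      inv_mem' := by
        rintro r ⟨hr, g, v, c, hc0, hg, hc⟩
        have : r⁻¹ = r := inv_eq_of_mul_eq_one_left hr
        rw [this]
        exact ⟨hr, g, v, c, hc0, hg, hc⟩ }
  have hMsq : ∀ r : M, r * r = 1 := fun r => Subtype.ext r.2.1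
  have hMcomm : ∀ r r' : M, r * r' = r' * r := by
    intro r r'
    have h1 := hMsq (r * r')
    have h2 := hMsq r
    have h3 := hMsq r'
    calc r * r' = (r * r')⁻¹ := (inv_eq_of_mul_eq_one_left h1).symm
      _ = r'⁻¹ * r⁻¹ := mul_inv_rev _ _
      _ = _ := by rw [inv_eq_of_mul_eq_one_left h2, inv_eq_of_mul_eq_one_left h3]
  let _ : CommGroup M := { (inferInstance : Group M) with mul_comm := hMcomm }
  have hch : ∀ r : M, ∃ v : V, ∃ (g : L) (c : F), c ≠ 0 ∧ π g = th v ∧ ((r : Rˣ) : R) = c • ι g := by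
    rintro ⟨r, hr, g, v, c, hc⟩
    exact ⟨v, g, c, hc⟩
  choose q hq using hch
  have huniq : ∀ r : M, ∀ v : V, ∀ (g : L) (c : F), c ≠ 0 → π g = th v → ((r : Rˣ) : R) = c • ι g → q r = v := by
    intro r v g c hc0 hg hc
    obtain ⟨g', c', hc0', hg', hc'⟩ := hq r
    apply h.inj
    rw [← hg', ← hg]
    apply H.eq_of_smul (c := c'⁻¹ * c)
    rw [mul_smul, ← hc, hc', inv_smul_smul₀ hc0']
  have hqadd : ∀ r r' : M, q (r * r') = q r + q r' := by
    intro r r'
    obtain ⟨g, c, hc0, hg, hc⟩ := hq r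
    obtain ⟨g', c', hc0', hg', hc'⟩ := hq r'
    refine huniq _ _ (g * g') (c * c') (mul_ne_zero hc0 hc0') (by rw [map_mul, hg, hg', h.add]) ?_
    rw [Subgroup.coe_mul, Units.val_mul, hc, hc', smul_mul_smul_comm, map_mul]
  -- as vector spaces
  have h2z : ∀ a : Additive M, (2 : ℕ) • a = 0 := by
    intro a
    rw [two_nsmul]
    exact hMsq a.toMul
  let _ : Module (ZMod 2) (Additive M) := AddCommGroup.zmodModule h2z
  let Q : Additive M →+ V := AddMonoidHom.mk' (fun a => q a.toMul) (fun a b => hqadd _ _)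
  let Ql : Additive M →ₗ[ZMod 2] V := Q.toZModLinearMap 2
  have hQs : Function.Surjective Ql := by
    intro v
    have e1 : (s v • ι (x v)) * (s v • ι (x v)) = 1 := by
      rw [smul_mul_smul_comm, hm, Algebra.algebraMap_eq_smul_one, smul_smul, hs, one_smul]
    let r : Rˣ := ⟨s v • ι (x v), s v • ι (x v), e1, e1⟩
    have hr : r ∈ M := ⟨Units.ext e1, x v, v, s v, hs0 v, hx v, rfl⟩
    exact ⟨Additive.ofMul ⟨r, hr⟩, huniq ⟨r, hr⟩ v (x v) (s v) (hs0 v) (hx v) rfl⟩
  obtain ⟨σ, hσ⟩ := Ql.exists_rightInverse_of_surjective (LinearMap.range_eq_top.2 hQs)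
  refine ⟨fun v => (((σ v).toMul : M) : Rˣ), fun u v => ?_, ?_, fun v => ?_⟩
  · change ((((σ (u + v)).toMul : M) : Rˣ) : R) = (((σ u).toMul : M) : Rˣ) * (((σ v).toMul : M) : Rˣ)
    rw [map_add, toMul_add, Subgroup.coe_mul, Units.val_mul]
  · change ((((σ 0).toMul : M) : Rˣ) : R) = 1
    rw [map_zero, toMul_zero]; rfl
  · obtain ⟨g, c, hc0, hg, hc⟩ := hq (σ v).toMul
    have e : q (σ v).toMul = v := LinearMap.congr_fun hσ v
    exact ⟨g, c, hc0, by rw [hg, e], hc⟩

end Lin

end Cfsg.Agent.H336.LinFour
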