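import Cfsg.Agent.H336.LinFour.CubE6Cent
import Cfsg.Agent.H336.LinFour.Lift
import Cfsg.Agent.H336.LinFour.Equiv
import Cfsg.Agent.H511.LinFour.Wt
import Cfsg.Agent.H351.SpSix.Rep
import Cfsg.Agent.H190.E6.Tw

/-!
# No `Sit` in `E₆(q)` and `²E₆(q)`, `q` odd

The centre of the group generated by the root elements on the 27-dimensional module has odd order, so `Sit` lifts to
this group. Then `27 = m₀ + 15 m` gives `m ≤ 1`, so that the `-1`-space of an involution of `A` has dimension at most 8.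
-/

set_option autoImplicit false

namespace Cfsg.Agent.H336.LinFour.RowE6

open Cfsg Cfsg.Lie Module
open Cfsg.Agent.ChevalleyStructure.E6Ad (Z Gam quot_equiv)
open Cfsg.Agent.H511.LinFour (wt fx finrank_eq finrank_fx mem_fx)
open Cfsg.Agent.H351.SpSix (rep rep_apply)

universe u v w

variable {F : Type u} [Field F]

/-- no `Sit` in a group of isometries of the cubic form -/
theorem false_of_isometries {G : Type v} [Group G] {th : V → G} {O K0 : Subgroup G} (h : Sit th O K0)
    (h2 : (2 : F) ≠ 0) (φ : G →* GL I27 F) (hφ : Function.Injective φ) (hE : ∀ g, φ g ∈ E6univ F) : False := by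
  obtain ⟨u, hu⟩ : ∃ u : V, u ≠ 0 := ⟨Pi.single 0 1, fun h => by
    have := congrFun h 0
    simp at this⟩
  have h1 := finrank_eq (ρ := rep φ) h h2 hu
  have h3 := finrank_fx (ρ := rep φ) h h2 hu hu
  have h27 : finrank F (I27 → F) = 27 := by
    rw [Module.finrank_fintype_fun_eq_card]; decide
  rw [h27] at h1
  set U : Submodule F (I27 → F) := fx (rep φ) th u with hU
  let W : Submodule F (I27 → F) := LinearMap.ker (rep φ (th u) + 1)
  have hUm : ∀ v, v ∈ U ↔ rep φ (th u) v = v := fun v => mem_fx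
  have hWm : ∀ v, v ∈ W ↔ rep φ (th u) v = -v := by
    intro v
    rw [LinearMap.mem_ker, LinearMap.add_apply, Module.End.one_apply, add_eq_zero_iff_eq_neg]
  have hinf : U ⊓ W = ⊥ := by
    rw [eq_bot_iff]
    rintro v ⟨hv, hv'⟩
    have h4 := (hUm v).1 hv
    have h5 := (hWm v).1 hv'
    rw [h4] at h5
    rw [Submodule.mem_bot]
    funext a
    have h6 := congrFun h5 a
    rw [Pi.neg_apply] at h6
    have h7 : (2 : F) * v a = 0 := by linear_combination h6
    exact (mul_eq_zero.1 h7).resolve_left h2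
  have h4 := Submodule.finrank_sup_add_finrank_inf_eq U W
  have h5 := Submodule.finrank_le (U ⊔ W)
  rw [hinf, finrank_bot] at h4
  rw [h27] at h5
  have h8 : finrank F W ≤ 8 := by omega
  have h9 := CubE6.eq_one_of_finrank_le h2 (hE (th u)) (by rw [← map_mul, h.sq, map_one]) U W hUm hWm h8
  exact hu ((h.eq_one_iff u).1 (hφ (by rw [h9, map_one])))

/-- **no `Sit` in a subgroup of `E₆(F)`** -/
theorem false_of_le [Finite F] {K : Type v} [Group K] {th : V → K} {O K0 : Subgroup K} (h : Sit th O K0)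
    (h2 : (2 : F) ≠ 0) (H : Subgroup (GL chevE6.Idx F)) (hH : H ≤ chevE6.group F) (e : K ≃* H) : False := by
  obtain ⟨ε⟩ := quot_equiv F
  let π0 : Gam F →* ↥(chevE6.group F) := ε.toMonoidHom.comp (QuotientGroup.mk' _)
  have hπ0 : Function.Surjective π0 := ε.surjective.comp (QuotientGroup.mk'_surjective _)
  have hker : ∀ x, π0 x = 1 → x ∈ Subgroup.center (Gam F) := by
    intro x hx
    have h1 : QuotientGroup.mk' (Subgroup.center (Gam F)) x = 1 := ε.injective (by rw [map_one]; exact hx)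
    exact (QuotientGroup.eq_one_iff _).mp h1
  let π1 : Gam F →* GL chevE6.Idx F := (chevE6.group F).subtype.comp π0
  let G1 : Subgroup (Gam F) := H.comap π1
  let π : G1 →* H := π1.subgroupComap H
  have hπ : ∀ x : G1, ((π x : H) : GL chevE6.Idx F) = ((π0 (x : Gam F) : ↥(chevE6.group F)) : GL chevE6.Idx F) :=
    fun x => rfl
  have hsurj : Function.Surjective π := by
    rintro ⟨y, hy⟩
    obtain ⟨x, hx⟩ := hπ0 ⟨y, hH hy⟩
    have h1 : π1 x = y := congrArg Subtype.val hx
    exact ⟨⟨x, by show π1 x ∈ H; rw [h1]; exact hy⟩, Subtype.ext h1⟩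
  have hkc : ∀ x : G1, π x = 1 → (x : Gam F) ∈ Subgroup.center (Gam F) := by
    intro x hx
    have h1 : ((π x : H) : GL chevE6.Idx F) = ((1 : H) : GL chevE6.Idx F) := by rw [hx]
    exact hker _ (Subtype.ext h1)
  have hc : π.ker ≤ Subgroup.center G1 := by
    intro x hx
    rw [Subgroup.mem_center_iff]
    intro y
    exact Subtype.ext (Subgroup.mem_center_iff.1 (hkc x (MonoidHom.mem_ker.1 hx)) y)
  have : Finite (GL I27 F) := inferInstance
  have hodd : Odd (Nat.card π.ker) := by
    by_contra hn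
    rw [Nat.not_odd_iff_even] at hn
    have : Fact (Nat.Prime 2) := ⟨Nat.prime_two⟩
    obtain ⟨⟨x, hx⟩, hx2⟩ := exists_prime_orderOf_dvd_card' (G := ↥π.ker) 2 (even_iff_two_dvd.mp hn)
    rw [Subgroup.orderOf_mk] at hx2
    have hxx : x * x = 1 := by rw [← pow_two, ← hx2, pow_orderOf_eq_one]
    have hcx := hkc x (MonoidHom.mem_ker.1 hx)
    have h1 : ((x : Gam F) : GL I27 F) = 1 := by
      refine CubE6.central (ChevalleyStructure.E6AdCubic.Gam_le (x : Gam F).2) ?_ ?_
      · exact congrArg (fun y : G1 => ((y : Gam F) : GL I27 F)) hxx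
      · intro r hr t
        exact congrArg Subtype.val (Subgroup.mem_center_iff.1 hcx ⟨_, CubE6.zG_mem_Gam hr t⟩)
    have h3 : x = 1 := Subtype.ext (Subtype.ext h1)
    rw [h3, orderOf_one] at hx2
    exact absurd hx2 (by norm_num)
  obtain ⟨th', -, h'⟩ := Sit.lift π (h.equiv e) hsurj hc hodd
  exact false_of_isometries h' h2 ((Gam F).subtype.comp G1.subtype)
    ((Gam F).subtype_injective.comp G1.subtype_injective)
    (fun g => ChevalleyStructure.E6AdCubic.Gam_le (g : Gam F).2)

/-- **row `E₆`** -/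
theorem row_E6 [Finite F] {K : Type v} [Group K] {th : V → K} {O K0 : Subgroup K} (h : Sit th O K0)
    (h2 : (2 : F) ≠ 0) (e : K ≃* ↥(chevE6.group F)) : False :=
  false_of_le h h2 _ le_rfl e

/-- **row `²E₆`** -/
theorem row_twE6 [Finite F] {K : Type v} [Group K] {th : V → K} {O K0 : Subgroup K} (h : Sit th O K0)
    (h2 : (2 : F) ≠ 0) (q : ℕ) (e : K ≃* ↥(twistedE6 F q)) : False :=
  false_of_le h h2 _ (Cfsg.Agent.H190.E6.twisted_le q) e

end Cfsg.Agent.H336.LinFour.RowE6
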